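import Mathlib
import Cfsg.Agent.H482.SylowNumbers

/-!
# Groups whose Sylow numbers are all square-free: basic facts (helper947, for S4289)

* `SqSy G` : all Sylow numbers of `G` are square-free; passes to quotients, normal subgroups, isomorphic groups;
* `card_of_minimal_normal` : a minimal normal abelian subgroup of exponent `s` of a group with `SqSy` has order `s`.
-/

set_option autoImplicit false
set_option linter.style.haveILetI false

namespace Cfsg.Agent.H947.Sq

open Subgroup Cfsg.Agent.H482.SylowNumbers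

/-- all Sylow numbers are square-free -/
def SqSy (G : Type*) [Group G] : Prop := ∀ r : ℕ, r.Prime → Squarefree (Nat.card (Sylow r G))

theorem SqSy.of_surjective {G H : Type*} [Group G] [Finite G] [Group H] (f : G →* H)
    (hf : Function.Surjective f) (h : SqSy G) : SqSy H := by
  intro r hr
  haveI : Fact r.Prime := ⟨hr⟩
  exact (h r hr).squarefree_of_dvd (card_sylow_dvd_of_surjective r f hf)

theorem SqSy.quotient {G : Type*} [Group G] [Finite G] (N : Subgroup G) [N.Normal] (h : SqSy G) : SqSy (G ⧸ N) :=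
  h.of_surjective (QuotientGroup.mk' N) (QuotientGroup.mk'_surjective N)

theorem SqSy.congr {G H : Type*} [Group G] [Finite G] [Group H] (e : G ≃* H) (h : SqSy G) : SqSy H :=
  h.of_surjective e.toMonoidHom e.surjective

theorem SqSy.normal {G : Type*} [Group G] [Finite G] (N : Subgroup G) [N.Normal] (h : SqSy G) : SqSy N := by
  intro r hr
  haveI : Fact r.Prime := ⟨hr⟩
  exact (h r hr).squarefree_of_dvd (card_sylow_normal_dvd r N)

variable {G : Type*} [Group G]

/-- `|N : C ∩ N|` divides `|G : C|` for a normal subgroup `N`. -/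
theorem relIndex_dvd [Finite G] (N : Subgroup G) [N.Normal] (C : Subgroup G) :
    C.relIndex N ∣ C.index := by
  have h0 : (N ⊓ C).relIndex C * C.relIndex (C ⊔ N) = (N ⊓ C).relIndex N * N.relIndex (C ⊔ N) := by
    rw [Subgroup.relIndex_mul_relIndex _ _ _ inf_le_right le_sup_left,
      Subgroup.relIndex_mul_relIndex _ _ _ inf_le_left le_sup_right]
  rw [Subgroup.inf_relIndex_right, Subgroup.inf_relIndex_left, Subgroup.relIndex_sup_right,
    mul_comm (C.relIndex N)] at h0
  have hne : N.relIndex C ≠ 0 := by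
    rw [Subgroup.relIndex]
    exact Subgroup.index_ne_zero_of_finite
  have h1 : C.relIndex (C ⊔ N) = C.relIndex N :=
    Nat.eq_of_mul_eq_mul_left (Nat.pos_of_ne_zero hne) h0
  rw [← h1]
  exact Subgroup.relIndex_dvd_index_of_le le_sup_left

/-- an `s`-element of `V ∩ P`, `P` a `t`-group, is trivial -/
theorem eq_one_of_pow {s t k : ℕ} (hs : s.Prime) (ht : t.Prime) (hst : t ≠ s) {x : G} (h1 : x ^ s = 1)
    (h2 : x ^ t ^ k = 1) : x = 1 := by
  have h3 : orderOf x ∣ s := orderOf_dvd_of_pow_eq_one h1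
  have h4 : orderOf x ∣ t ^ k := orderOf_dvd_of_pow_eq_one h2
  have hcop : Nat.Coprime s (t ^ k) := Nat.Coprime.pow_right _ ((Nat.coprime_primes hs ht).2 hst.symm)
  have := Nat.eq_one_of_dvd_coprimes hcop h3 h4
  exact orderOf_eq_one_iff.1 this

/-- `N_V(P) = C_V(P)` -/
theorem inf_normalizer {s t : ℕ} (hs : s.Prime) [ht : Fact t.Prime] (hst : t ≠ s) (V : Subgroup G) [hV : V.Normal]
    (hexp : ∀ a ∈ V, a ^ s = 1) (P : Subgroup G) (hP : IsPGroup t P) :
    V ⊓ normalizer (P : Set G) = V ⊓ centralizer (P : Set G) := by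
  apply le_antisymm
  · refine le_inf inf_le_left ?_
    rintro v ⟨hv, hvP⟩
    rw [mem_centralizer_iff]
    intro x hx
    have h1 : x * v * x⁻¹ * v⁻¹ ∈ V := V.mul_mem (hV.conj_mem v hv x) (V.inv_mem hv)
    have h2 : x * v * x⁻¹ * v⁻¹ ∈ P := by
      have := (mem_normalizer_iff.1 hvP x⁻¹).1 (P.inv_mem hx)
      have h3 := P.mul_mem hx this
      have : x * (v * x⁻¹ * v⁻¹) = x * v * x⁻¹ * v⁻¹ := by group
      rwa [this] at h3
    obtain ⟨k, hk⟩ := hP ⟨_, h2⟩
    have h4 : (x * v * x⁻¹ * v⁻¹) ^ t ^ k = 1 := by simpa using congrArg Subtype.val hk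
    have h5 := eq_one_of_pow hs ht.out hst (hexp _ h1) h4
    have h6 : x * v * x⁻¹ * v⁻¹ * (v * x) = x * v := by group
    rw [h5, one_mul] at h6
    exact h6.symm
  · refine inf_le_inf_left _ ?_
    intro g hg
    rw [mem_normalizer_iff]
    intro x
    constructor
    · intro hx
      have := (mem_centralizer_iff.1 hg) x hx
      rw [← this]
      simpa using hx
    · intro hx
      have := (mem_centralizer_iff.1 hg) _ hx
      have h2 : x = g⁻¹ * (g * x * g⁻¹ * g) := by group
      rw [h2, this]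
      simpa using hx

/-- `|V : C_V(x)|` divides `s` for elements of `t`-power order, `t ≠ s`. -/
theorem relIndex_centralizer_dvd [Finite G] (h : SqSy G) {s : ℕ} (hs : s.Prime) (V : Subgroup G) [hV : V.Normal]
    (hexp : ∀ a ∈ V, a ^ s = 1) {t k : ℕ} (ht : t.Prime) (hst : t ≠ s) {x : G} (hx : orderOf x = t ^ k) :
    (centralizer ({x} : Set G)).relIndex V ∣ s := by
  haveI : Fact t.Prime := ⟨ht⟩
  haveI : Fact s.Prime := ⟨hs⟩
  have hxp : IsPGroup t (zpowers x) := IsPGroup.of_card (n := k) (by rw [Nat.card_zpowers, hx])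
  obtain ⟨P, hP⟩ := hxp.exists_le_sylow
  have h1 : (normalizer ((P : Subgroup G) : Set G)).relIndex V ∣ Nat.card (Sylow t G) := by
    rw [card_eq_index P]
    exact relIndex_dvd V _
  have h2 : (centralizer ({x} : Set G)).relIndex V ∣ (normalizer ((P : Subgroup G) : Set G)).relIndex V := by
    have e : (normalizer ((P : Subgroup G) : Set G)).relIndex V = (centralizer ((P : Subgroup G) : Set G)).relIndex V := by
      rw [← inf_relIndex_left V, inf_normalizer hs hst V hexp _ P.isPGroup', inf_relIndex_left]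
    rw [e]
    apply relIndex_dvd_of_le_left
    apply centralizer_le
    rw [Set.singleton_subset_iff]
    exact hP (mem_zpowers x)
  have h3 : Squarefree ((centralizer ({x} : Set G)).relIndex V) :=
    (h t ht).squarefree_of_dvd (h2.trans h1)
  have hVp : IsPGroup s V := by
    intro a
    refine ⟨1, ?_⟩
    rw [pow_one]
    exact Subtype.ext (hexp a a.2)
  obtain ⟨n, hn⟩ := IsPGroup.iff_card.1 hVp
  have h4 : (centralizer ({x} : Set G)).relIndex V ∣ s ^ n := by
    rw [← hn]; exact relIndex_dvd_card _ _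
  obtain ⟨m, -, hm⟩ := (Nat.dvd_prime_pow hs).1 h4
  rw [hm] at h3 ⊢
  rcases Nat.lt_or_ge m 2 with hm2 | hm2
  · interval_cases m
    · simp
    · simp
  · exfalso
    have h5 : s * s ∣ s ^ m := by rw [← pow_two]; exact pow_dvd_pow s hm2
    exact hs.one_lt.ne' (Nat.isUnit_iff.1 (h3 s h5))

/-! ### Linear algebra -/

open Module in
/-- a linear map with fixed space of codimension at most one, of determinant one, acts unipotently -/
theorem sub_one_sq_eq_zero {s : ℕ} [Fact s.Prime] {A : Type*} [AddCommGroup A] [Module (ZMod s) A]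
    [Finite A] (T : A →ₗ[ZMod s] A) (hr : Nat.card (LinearMap.range (T - 1)) ∣ s) (hdet : LinearMap.det T = 1)
    (x : A) : (T - 1) ((T - 1) x) = 0 := by
  classical
  haveI : Module.Finite (ZMod s) A := Module.Finite.of_finite
  set f := T - 1 with hf
  have hTf : ∀ x, T x = x + f x := by intro x; rw [hf]; simp
  have hcard : Nat.card (LinearMap.range f) = s ^ finrank (ZMod s) (LinearMap.range f) := by
    have := Module.natCard_eq_pow_finrank (K := ZMod s) (V := LinearMap.range f)
    rwa [Nat.card_zmod] at this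
  have hfr : finrank (ZMod s) (LinearMap.range f) ≤ 1 := by
    by_contra hcon
    push Not at hcon
    have h2 : s ^ 2 ∣ s := (pow_dvd_pow s hcon).trans (hcard ▸ hr)
    have h3 := Nat.le_of_dvd (Fact.out : s.Prime).pos h2
    have h4 := (Fact.out : s.Prime).two_le
    nlinarith
  obtain ⟨v, hv⟩ := finrank_le_one_iff.1 hfr
  by_cases hv0 : (v : A) = 0
  · have : ∀ y, f y = 0 := by
      intro y
      obtain ⟨c, hc⟩ := hv ⟨f y, LinearMap.mem_range_self f y⟩
      have := congrArg Subtype.val hc
      simp only [Submodule.coe_smul, hv0, smul_zero] at this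
      exact this.symm
    exact this _
  obtain ⟨g, hg⟩ : ∃ g : A →ₗ[ZMod s] ZMod s, g v = 1 := by
    obtain ⟨g0, hg0⟩ : ∃ g : Module.Dual (ZMod s) A, g v ≠ 0 := by
      by_contra hcon
      push Not at hcon
      exact hv0 ((Module.forall_dual_apply_eq_zero_iff (ZMod s) (v : A)).1 hcon)
    refine ⟨(g0 v)⁻¹ • g0, ?_⟩
    rw [LinearMap.smul_apply, smul_eq_mul, inv_mul_cancel₀ hg0]
  set φ : A →ₗ[ZMod s] ZMod s := g ∘ₗ f with hφ
  have hfφ : ∀ y, f y = φ y • (v : A) := by
    intro y
    obtain ⟨c, hc⟩ := hv ⟨f y, LinearMap.mem_range_self f y⟩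
    have h1 : c • (v : A) = f y := congrArg Subtype.val hc
    have h2 : φ y = c := by
      rw [hφ, LinearMap.comp_apply, ← h1, map_smul, hg, smul_eq_mul, mul_one]
    rw [h2, h1]
  have hT : T = LinearMap.transvection φ (v : A) := by
    ext y
    rw [hTf, hfφ]
    rfl
  have h1 : LinearMap.det T = 1 + φ v := by rw [hT]; exact LinearMap.transvection.det _ _
  have h2 : φ v = 0 := by
    rw [hdet] at h1
    linear_combination -h1
  rw [hfφ x, map_smul, hfφ v, h2, zero_smul, smul_zero]

/-- powers of a unipotent map -/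
theorem pow_apply_of_sq {s : ℕ} {A : Type*} [AddCommGroup A] [Module (ZMod s) A]
    (T : A →ₗ[ZMod s] A) (h : ∀ x, (T - 1) ((T - 1) x) = 0) (n : ℕ) (x : A) : (T ^ n) x = x + n • (T - 1) x := by
  induction n with
  | zero => simp
  | succ n ih =>
    rw [pow_succ', Module.End.mul_apply, ih]
    have h1 : ∀ y, T y = y + (T - 1) y := by intro y; simp
    rw [h1 (x + n • (T - 1) x), map_add, map_nsmul, h x, smul_zero, add_zero, succ_nsmul]
    abel

/-- the homomorphism `a ↦ α a * a⁻¹` of a commutative group -/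
def dl {A : Type*} [CommGroup A] (α : MulAut A) : A →* A where
  toFun a := α a * a⁻¹
  map_one' := by simp
  map_mul' a b := by
    rw [map_mul, mul_inv]
    exact mul_mul_mul_comm _ _ _ _

/-- automorphisms as linear maps -/
def endHom (s : ℕ) (A : Type*) [CommGroup A] [Module (ZMod s) (Additive A)] :
    MulAut A →* Module.End (ZMod s) (Additive A) where
  toFun g := AddMonoidHom.toZModLinearMap s (MonoidHom.toAdditive (MulEquiv.toMonoidHom g))
  map_one' := by
    ext v
    rfl
  map_mul' a b := by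
    ext v
    rfl

theorem exists_det_aux' {s : ℕ} [hs : Fact s.Prime] {A : Type*} [CommGroup A] [Finite A]
    [Module (ZMod s) (Additive A)] (hexp : ∀ a : A, a ^ s = 1) :
    ∃ χ : MulAut A →* (ZMod s)ˣ, ∀ x : MulAut A, Nat.card (dl x).range ∣ s → χ x = 1 → x ^ s = 1 := by
  classical
  have hρ : ∀ (g : MulAut A) (v : Additive A), Additive.toMul (endHom s A g v) = g (Additive.toMul v) :=
    fun g v => rfl
  refine ⟨(LinearMap.det.comp (endHom s A)).toHomUnits, ?_⟩
  intro x hx hχ
  have hdet : LinearMap.det (endHom s A x) = 1 := by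
    have := congrArg Units.val hχ
    exact this
  have hcard : Nat.card (LinearMap.range (endHom s A x - 1)) ∣ s := by
    have h1 : Nat.card (LinearMap.range (endHom s A x - 1)) = Nat.card (dl x).range := by
      refine Nat.card_congr (Equiv.subtypeEquiv Additive.toMul fun a => ?_)
      rw [LinearMap.mem_range, MonoidHom.mem_range]
      constructor
      · rintro ⟨y, rfl⟩
        refine ⟨Additive.toMul y, ?_⟩
        show x _ * _⁻¹ = _
        rw [← div_eq_mul_inv]
        rfl
      · rintro ⟨y, hy⟩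
        refine ⟨Additive.ofMul y, ?_⟩
        apply Additive.toMul.injective
        rw [← hy]
        show _ = x y * y⁻¹
        rw [← div_eq_mul_inv]
        rfl
    rw [h1]
    exact hx
  have hsq := sub_one_sq_eq_zero (endHom s A x) hcard hdet
  ext v
  have hpow := pow_apply_of_sq (endHom s A x) hsq s (Additive.ofMul v)
  have hz : s • (endHom s A x - 1) (Additive.ofMul v) = 0 := by
    apply Additive.toMul.injective
    exact hexp _
  rw [hz, add_zero, ← map_pow] at hpow
  have := congrArg Additive.toMul hpow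
  rw [hρ] at this
  exact this

/-- the determinant of an action on an elementary abelian group -/
theorem exists_det_aux {s : ℕ} [hs : Fact s.Prime] {A : Type*} [CommGroup A] [Finite A] (hexp : ∀ a : A, a ^ s = 1) :
    ∃ χ : MulAut A →* (ZMod s)ˣ, ∀ x : MulAut A, Nat.card (dl x).range ∣ s → χ x = 1 → x ^ s = 1 := by
  letI : Module (ZMod s) (Additive A) := AddCommGroup.zmodModule (n := s) (by
    intro x
    apply Additive.toMul.injective
    exact hexp _)
  exact exists_det_aux' hexp

/-- the determinant of the conjugation action on an elementary abelian normal subgroup -/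
theorem exists_det [Finite G] {s : ℕ} [hs : Fact s.Prime] (V : Subgroup G) [hV : V.Normal]
    (hc : ∀ a ∈ V, ∀ b ∈ V, a * b = b * a) (hexp : ∀ a ∈ V, a ^ s = 1) :
    ∃ χ : G →* (ZMod s)ˣ, (∀ x : G, (∀ v ∈ V, x * v = v * x) → χ x = 1) ∧
      ∀ x : G, (centralizer ({x} : Set G)).relIndex V ∣ s → χ x = 1 → ∀ v ∈ V, x ^ s * v = v * x ^ s := by
  classical
  letI : CommGroup V := { V.toGroup with mul_comm := fun a b => Subtype.ext (hc a a.2 b b.2) }
  obtain ⟨χ, hχ⟩ := exists_det_aux (s := s) (A := V) (fun a => Subtype.ext (hexp a a.2))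
  refine ⟨χ.comp (MulAut.conjNormal (H := V)), ?_, ?_⟩
  · intro x hx
    have : (MulAut.conjNormal x : MulAut V) = 1 := by
      ext v
      rw [MulAut.conjNormal_apply, mul_inv_eq_iff_eq_mul]
      exact hx v v.2
    rw [MonoidHom.comp_apply, this, map_one]
  intro x hx hχx v hv
  have hker : (dl (MulAut.conjNormal x : MulAut V)).ker = (centralizer ({x} : Set G)).subgroupOf V := by
    ext w
    rw [MonoidHom.mem_ker, mem_subgroupOf, mem_centralizer_singleton_iff]
    show (MulAut.conjNormal x : MulAut V) w * w⁻¹ = 1 ↔ _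
    rw [mul_inv_eq_one, Subtype.ext_iff, MulAut.conjNormal_apply, mul_inv_eq_iff_eq_mul]
    exact eq_comm
  have h1 := hχ (MulAut.conjNormal x) (by rw [← index_ker, hker]; exact hx) hχx
  rw [← map_pow] at h1
  have h2 : ((MulAut.conjNormal (x ^ s) : MulAut V) ⟨v, hv⟩ : G) = v := by rw [h1]; rfl
  rw [MulAut.conjNormal_apply, mul_inv_eq_iff_eq_mul] at h2
  exact h2

/-- **A minimal normal abelian subgroup of a group with square-free Sylow numbers has prime order.** -/
theorem card_of_minimal_normal [Finite G] (h : SqSy G) {s : ℕ} (hs : s.Prime) (V : Subgroup G) [hV : V.Normal]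
    (hne : V ≠ ⊥) (hmin : ∀ N : Subgroup G, N.Normal → N ≤ V → N = ⊥ ∨ N = V)
    (hc : ∀ a ∈ V, ∀ b ∈ V, a * b = b * a) (hexp : ∀ a ∈ V, a ^ s = 1) : Nat.card V = s := by
  classical
  haveI : Fact s.Prime := ⟨hs⟩
  obtain ⟨χ, hχ0, hχ⟩ := exists_det V hc hexp
  obtain ⟨b, hbV, hb1⟩ := (Subgroup.ne_bot_iff_exists_ne_one.1 hne : ∃ a : V, a ≠ 1).elim
    (fun a ha => (⟨a, a.2, fun e => ha (Subtype.ext e)⟩ : ∃ b : G, b ∈ V ∧ b ≠ 1))
  have hVp : IsPGroup s V := fun a => ⟨1, by rw [pow_one]; exact Subtype.ext (hexp a a.2)⟩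
  -- the `t`-part
  have part : ∀ (t : ℕ), t.Prime → ∀ x : G, ∃ m k : ℕ, ¬ t ∣ m ∧ orderOf (x ^ m) = t ^ k := by
    intro t ht x
    obtain ⟨k, m, hm, hkm⟩ := Nat.exists_eq_pow_mul_and_not_dvd (orderOf_pos x).ne' t ht.ne_one
    refine ⟨m, k, hm, ?_⟩
    have hm0 : 0 < m := Nat.pos_of_ne_zero (by rintro rfl; exact hm (dvd_zero _))
    rw [orderOf_pow, hkm, Nat.gcd_eq_right (Dvd.intro_left _ rfl), Nat.mul_div_cancel _ hm0]
  -- elements of order `t ^ k` in the kernel centralise `V`
  have key : ∀ {t k : ℕ} {x : G}, t.Prime → t ≠ s → orderOf x = t ^ k → χ x = 1 → ∀ v ∈ V, x * v = v * x := by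
    intro t k x ht hts hx hx1 v hv
    have h1 := hχ x (relIndex_centralizer_dvd h hs V hexp ht hts hx) hx1 v hv
    have hcop : (orderOf x).Coprime s := by
      rw [hx]; exact Nat.Coprime.pow_left _ ((Nat.coprime_primes ht hs).2 hts)
    obtain ⟨m, hm⟩ := exists_pow_eq_self_of_coprime hcop.symm
    have h2 : Commute (x ^ s) v := h1
    have h3 := h2.pow_left m
    rw [hm] at h3
    exact h3
  have hVK : V ≤ centralizer ((χ.ker : Subgroup G) : Set G) := by
    set Q : Subgroup (MulAut V) := (χ.ker).map (MulAut.conjNormal (H := V)) with hQ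
    have hQp : IsPGroup s Q := by
      rintro ⟨q, x, hx, rfl⟩
      have hx1 : χ x = 1 := hx
      have huniq : ∀ {t : ℕ}, t.Prime → t ∣ orderOf (MulAut.conjNormal x : MulAut V) → t = s := by
        intro t ht hd
        by_contra hts
        obtain ⟨m, k, hm, hk⟩ := part t ht x
        have h1 := key ht hts hk (by rw [map_pow, hx1, one_pow])
        have h2 : (MulAut.conjNormal x : MulAut V) ^ m = 1 := by
          rw [← map_pow]
          ext v
          rw [MulAut.conjNormal_apply, mul_inv_eq_iff_eq_mul]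
          exact h1 v v.2
        exact hm (hd.trans (orderOf_dvd_of_pow_eq_one h2))
      have h0 : orderOf (MulAut.conjNormal x : MulAut V) ≠ 0 := by
        have := (isOfFinOrder_of_finite x).orderOf_pos
        intro h0
        have h3 := orderOf_map_dvd (MulAut.conjNormal (H := V)) x
        rw [h0, Nat.zero_dvd] at h3
        omega
      refine ⟨(orderOf (MulAut.conjNormal x : MulAut V)).primeFactorsList.length, Subtype.ext ?_⟩
      have := Nat.eq_prime_pow_of_unique_prime_dvd h0 huniq
      show (MulAut.conjNormal x : MulAut V) ^ s ^ _ = 1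
      rw [← this]
      exact pow_orderOf_eq_one _
    have hdvd : s ∣ Nat.card V := by
      have h1 : orderOf b = s := orderOf_eq_prime (hexp b hbV) hb1
      rw [← h1, ← Nat.card_zpowers]
      exact Subgroup.card_dvd_of_le (zpowers_le.2 hbV)
    obtain ⟨c, hcf, hc1⟩ := hQp.exists_fixed_point_of_prime_dvd_card_of_fixed_point V hdvd
      (a := (1 : V)) (by
        intro q
        exact map_one (q : MulAut V))
    have hN : (V ⊓ centralizer ((χ.ker : Subgroup G) : Set G)).Normal := inferInstance
    rcases hmin _ hN inf_le_left with h1 | h1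
    · exfalso
      apply hc1
      have h2 : (c : G) ∈ V ⊓ centralizer ((χ.ker : Subgroup G) : Set G) := by
        refine mem_inf.2 ⟨c.2, ?_⟩
        rw [mem_centralizer_iff]
        intro x hx
        have h3 := hcf ⟨MulAut.conjNormal x, x, hx, rfl⟩
        have h4 : ((MulAut.conjNormal x : MulAut V) c : G) = c := congrArg Subtype.val h3
        rw [MulAut.conjNormal_apply, mul_inv_eq_iff_eq_mul] at h4
        exact h4
      rw [h1, mem_bot] at h2
      exact (Subtype.ext h2).symm
    · rw [← h1]; exact inf_le_right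
  by_cases hcen : ∀ x : G, ∀ v ∈ V, x * v = v * x
  · have hN : (zpowers b).Normal := by
      refine ⟨fun y hy g => ?_⟩
      have hyV : y ∈ V := (zpowers_le.2 hbV) hy
      rw [hcen g y hyV, mul_inv_cancel_right]
      exact hy
    rcases hmin _ hN (zpowers_le.2 hbV) with h1 | h1
    · exact absurd (zpowers_eq_bot.1 h1) hb1
    · rw [← h1, Nat.card_zpowers]
      exact orderOf_eq_prime (hexp b hbV) hb1
  push Not at hcen
  obtain ⟨x, v, hv, hxv⟩ := hcen
  have hχx : χ x ≠ 1 := by
    intro h1
    exact hxv ((mem_centralizer_iff.1 (hVK hv)) x h1)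
  have ho : orderOf (χ x) ≠ 1 := fun h1 => hχx (orderOf_eq_one_iff.1 h1)
  obtain ⟨t, ht, htd⟩ := Nat.exists_prime_and_dvd ho
  have hts : t ≠ s := by
    rintro rfl
    have h1 : t ∣ Nat.card (ZMod t)ˣ := htd.trans (orderOf_dvd_natCard _)
    rw [Nat.card_eq_fintype_card, ZMod.card_units] at h1
    have := Nat.le_of_dvd (by have := ht.two_le; omega) h1
    have := ht.two_le
    omega
  obtain ⟨m, k, hm, hk⟩ := part t ht x
  set y := x ^ m with hy
  have hyV : ¬ ∀ v ∈ V, y * v = v * y := by
    intro h1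
    have h2 := hχ0 y h1
    rw [hy, map_pow] at h2
    exact hm (htd.trans (orderOf_dvd_of_pow_eq_one h2))
  have hN : (V ⊓ centralizer ({y} : Set G)).Normal := by
    refine ⟨fun d hd g => mem_inf.2 ⟨hV.conj_mem _ hd.1 g, ?_⟩⟩
    rw [mem_centralizer_singleton_iff]
    have hd2 : d * y = y * d := (mem_centralizer_singleton_iff.1 hd.2)
    -- `c = y⁻¹ g y g⁻¹` is in the kernel
    have hcK : y⁻¹ * (g * y * g⁻¹) ∈ χ.ker := by
      rw [MonoidHom.mem_ker, map_mul, map_mul, map_mul, map_inv, map_inv, mul_comm (χ g), mul_assoc,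
        mul_inv_cancel, mul_one, inv_mul_cancel]
    have hgd : g * d * g⁻¹ ∈ V := hV.conj_mem _ hd.1 g
    have h1 := (mem_centralizer_iff.1 (hVK hgd)) _ hcK
    -- `g d g⁻¹` commutes with `g y g⁻¹`
    have h2 : (g * d * g⁻¹) * (g * y * g⁻¹) = (g * y * g⁻¹) * (g * d * g⁻¹) := by
      have e1 : (g * d * g⁻¹) * (g * y * g⁻¹) = g * (d * y) * g⁻¹ := by group
      have e2 : (g * y * g⁻¹) * (g * d * g⁻¹) = g * (y * d) * g⁻¹ := by group
      rw [e1, e2, hd2]
    set D := g * d * g⁻¹ with hD
    set Y := g * y * g⁻¹ with hY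
    have e3 : y⁻¹ * Y * D = y⁻¹ * (D * Y) := by rw [h2]; group
    rw [e3] at h1
    have e4 : D * Y = y * (D * (y⁻¹ * Y)) := by rw [← h1]; group
    have e5 : D * Y = y * D * y⁻¹ * Y := by rw [e4]; group
    have e6 : D = y * D * y⁻¹ := mul_right_cancel e5
    calc D * y = (y * D * y⁻¹) * y := by rw [← e6]
      _ = y * D := by group
  rcases hmin _ hN inf_le_left with h1 | h1
  · have h2 := relIndex_centralizer_dvd h hs V hexp ht hts hk
    rw [← inf_relIndex_left, h1, relIndex_bot_left] at h2
    refine ((Nat.dvd_prime hs).1 h2).resolve_left fun h3 => hne (Subgroup.card_eq_one.1 h3)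
  · exfalso
    apply hyV
    intro v hv
    rw [← h1] at hv
    exact (mem_centralizer_singleton_iff.1 hv.2).symm

end Cfsg.Agent.H947.Sq
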