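import Mathlib
import Cfsg.Prelude.Def_CaseTheorems
import Cfsg.Agent.H947.SqBasic

/-!
# Square-free Sylow numbers and an odd prime not adjacent to `2` (helper947, for S4289)

* `prankLE_two` : if `4 ∤ n_r(G)` for an odd prime `r ∣ |G|` and no involution commutes with an element of order `r`,
  then the `2`-rank of `G` is at most `2`;
* `four_dvd_of_odd` : if `|N(R)|` is odd and `4 ∣ |G|` then `4 ∣ n_r(G)`.
-/

set_option autoImplicit false
set_option linter.style.haveILetI false

namespace Cfsg.Agent.H947.Sq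

open Subgroup Cfsg.Agent.H482.SylowNumbers

variable {G : Type*} [Group G] [Finite G]

omit [Finite G] in
theorem not_four_dvd (h : SqSy G) {r : ℕ} (hr : r.Prime) : ¬ 4 ∣ Nat.card (Sylow r G) := by
  intro h4
  have := h r hr 2 h4
  rw [Nat.isUnit_iff] at this
  omega

omit [Finite G] in
theorem not_sq_dvd (h : SqSy G) {r p : ℕ} (hr : r.Prime) (hp : p.Prime) : ¬ p ^ 2 ∣ Nat.card (Sylow r G) := by
  intro h4
  rw [pow_two] at h4
  have := h r hr p h4
  rw [Nat.isUnit_iff] at this
  exact hp.one_lt.ne' this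

/-- the relation between the Sylow number and the normaliser -/
theorem card_sylow_mul {r : ℕ} [Fact r.Prime] (R : Sylow r G) :
    Nat.card (Sylow r G) * Nat.card (normalizer ((R : Subgroup G) : Set G)) = Nat.card G := by
  rw [card_eq_index R]
  exact (normalizer ((R : Subgroup G) : Set G)).index_mul_card

/-- no involution commutes with an element of order `r` -/
def NA (r : ℕ) (G : Type*) [Group G] : Prop := ∀ x t : G, orderOf x = r → orderOf t = 2 → x * t ≠ t * x

theorem NA.of_order {G : Type*} [Group G] {r : ℕ} (hr : r.Prime) (hr2 : r ≠ 2) (h : ∀ g : G, orderOf g ≠ 2 * r) :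
    NA r G := by
  intro x t hx ht hxt
  apply h (t * x)
  have hc : Commute t x := hxt.symm
  have hcop : Nat.Coprime (orderOf t) (orderOf x) := by
    rw [hx, ht]; exact (Nat.coprime_primes Nat.prime_two hr).2 hr2.symm
  rw [hc.orderOf_mul_eq_mul_orderOf_of_coprime hcop, hx, ht]

/-- two involutions normalising a nontrivial `r`-subgroup are equal or generate a group which is not a `2`-group -/
theorem eq_of_involutions {r : ℕ} [hr : Fact r.Prime] (hNA : NA r G) (R : Subgroup G) (hR : IsPGroup r R)
    (hR1 : R ≠ ⊥) {V : Subgroup G} (hV : IsPGroup 2 V) (hVN : V ≤ normalizer (R : Set G)) {a b : G} (ha : a ∈ V)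
    (hb : b ∈ V) (ha2 : orderOf a = 2) (hb2 : orderOf b = 2) : a = b := by
  classical
  -- an involution inverts `R`
  have hinv : ∀ c ∈ V, orderOf c = 2 → ∀ x ∈ R, c * x * c⁻¹ = x⁻¹ := by
    intro c hc hc2
    have hcN := hVN hc
    let φ : R →* R :=
      { toFun := fun x => ⟨c * x * c⁻¹, (mem_normalizer_iff.1 hcN _).1 x.2⟩
        map_one' := Subtype.ext (by simp)
        map_mul' := fun x y => Subtype.ext (by
          show c * ((x : G) * y) * c⁻¹ = (c * x * c⁻¹) * (c * y * c⁻¹)
          group) }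
    have hcc : c * c = 1 := by
      have := pow_orderOf_eq_one c
      rwa [hc2, pow_two] at this
    have hfix : MonoidHom.FixedPointFree φ := by
      intro x hx
      by_contra hne
      have h1 : c * (x : G) * c⁻¹ = x := congrArg Subtype.val hx
      -- an element of order `r` in `⟨x⟩`
      obtain ⟨k, hk⟩ := (IsPGroup.iff_orderOf.1 hR) x
      have hk0 : k ≠ 0 := by
        rintro rfl
        rw [pow_zero, orderOf_eq_one_iff] at hk
        exact hne hk
      obtain ⟨j, rfl⟩ := Nat.exists_eq_succ_of_ne_zero hk0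
      have hxo : orderOf ((x : G) ^ r ^ j) = r := by
        rw [orderOf_pow, Subgroup.orderOf_coe, hk, pow_succ, Nat.gcd_eq_right (dvd_mul_right _ _),
          Nat.mul_div_cancel_left _ (pow_pos hr.out.pos _)]
      apply hNA _ c hxo hc2
      have h2 : Commute (x : G) c := by
        rw [mul_inv_eq_iff_eq_mul] at h1
        exact h1.symm
      exact h2.pow_left _
    have hsq : Function.Involutive φ := by
      intro x
      apply Subtype.ext
      show c * (c * (x : G) * c⁻¹) * c⁻¹ = x
      have : c * (c * (x : G) * c⁻¹) * c⁻¹ = (c * c) * x * (c * c)⁻¹ := by group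
      rw [this, hcc]; simp
    have h3 := hfix.coe_eq_inv_of_involutive hsq
    intro x hx
    exact congrArg Subtype.val (congrFun h3 ⟨x, hx⟩)
  by_contra hab
  have hne : a * b ≠ 1 := by
    intro h1
    have hb' : b * b = 1 := by
      have := pow_orderOf_eq_one b
      rwa [hb2, pow_two] at this
    apply hab
    calc a = a * (b * b) := by rw [hb', mul_one]
      _ = (a * b) * b := by group
      _ = b := by rw [h1, one_mul]
  -- a power of `a * b` is an involution centralising `R`
  obtain ⟨k, hk⟩ := (IsPGroup.iff_orderOf.1 hV) ⟨a * b, V.mul_mem ha hb⟩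
  have hk' : orderOf (a * b) = 2 ^ k := by rw [← hk, ← Subgroup.orderOf_coe]
  have hk0 : k ≠ 0 := by
    rintro rfl
    rw [pow_zero, orderOf_eq_one_iff] at hk'
    exact hne hk'
  obtain ⟨j, rfl⟩ := Nat.exists_eq_succ_of_ne_zero hk0
  have hto : orderOf ((a * b) ^ 2 ^ j) = 2 := by
    rw [orderOf_pow, hk', pow_succ, Nat.gcd_eq_right (dvd_mul_right _ _),
      Nat.mul_div_cancel_left _ (pow_pos (by norm_num) _)]
  -- an element of order `r` in `R`
  obtain ⟨n, hn⟩ := IsPGroup.iff_card.1 hR
  have hn0 : n ≠ 0 := by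
    rintro rfl
    rw [pow_zero] at hn
    exact hR1 (Subgroup.card_eq_one.1 hn)
  have hd : r ∣ Nat.card R := by rw [hn]; exact dvd_pow_self r hn0
  obtain ⟨x, hx⟩ := exists_prime_orderOf_dvd_card' r hd
  have hxo : orderOf (x : G) = r := by rw [Subgroup.orderOf_coe, hx]
  apply hNA (x : G) _ hxo hto
  have h1 : Commute (x : G) (a * b) := by
    have e1 := hinv a ha ha2 _ (hinv b hb hb2 x x.2 ▸ R.inv_mem x.2 : b * (x : G) * b⁻¹ ∈ R)
    have e2 : a * (b * (x : G) * b⁻¹) * a⁻¹ = x := by
      rw [e1, hinv b hb hb2 x x.2, inv_inv]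
    have e3 : (a * b) * (x : G) * (a * b)⁻¹ = x := by
      calc (a * b) * (x : G) * (a * b)⁻¹ = a * (b * (x : G) * b⁻¹) * a⁻¹ := by group
        _ = x := e2
    rw [mul_inv_eq_iff_eq_mul] at e3
    exact e3.symm
  exact h1.pow_right _

/-- **an isolated odd prime forces `2`-rank at most two** -/
theorem prankLE_two {r : ℕ} [hr : Fact r.Prime] (hNA : NA r G) (hd : r ∣ Nat.card G)
    (h4 : ¬ 4 ∣ Nat.card (Sylow r G)) : Cfsg.PRankLE 2 2 G := by
  classical
  intro A hA hexp
  obtain ⟨R⟩ : Nonempty (Sylow r G) := inferInstance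
  have hR1 : (R : Subgroup G) ≠ ⊥ := R.ne_bot_of_dvd_card hd
  set N := normalizer ((R : Subgroup G) : Set G) with hN
  obtain ⟨V0⟩ : Nonempty (Sylow 2 N) := inferInstance
  set V := (V0 : Subgroup N).map N.subtype with hV
  have hVp : IsPGroup 2 V := V0.isPGroup'.map _
  have hVN : V ≤ N := map_subtype_le _
  -- index of `V`
  obtain ⟨T, hT⟩ := hVp.exists_le_sylow
  have hAp : IsPGroup 2 A := fun a => ⟨1, Subtype.ext (by rw [pow_one]; exact hexp a a.2)⟩
  obtain ⟨T', hT'⟩ := hAp.exists_le_sylow
  obtain ⟨g, hg⟩ := MulAction.exists_smul_eq G T' T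
  -- the conjugate of `A` inside `T`
  set B := A.map (MulAut.conj g).toMonoidHom with hB
  have hBT : B ≤ T := by
    rintro _ ⟨a, ha, rfl⟩
    rw [← hg]
    exact ⟨a, hT' ha, rfl⟩
  have hBcard : Nat.card B = Nat.card A := Subgroup.card_map_of_injective (MulAut.conj g).injective
  have hVT : V.relIndex (T : Subgroup G) ≤ 2 := by
    have h1 : Nat.card (Sylow r G) * Nat.card N = Nat.card G := card_sylow_mul R
    have h2 : Nat.card V = 2 ^ (Nat.card N).factorization 2 := by
      rw [hV, Subgroup.card_map_of_injective N.subtype_injective]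
      exact V0.card_eq_multiplicity
    have h3 : Nat.card (T : Subgroup G) = 2 ^ (Nat.card G).factorization 2 := T.card_eq_multiplicity
    have h5 : (Nat.card (Sylow r G)).factorization 2 ≤ 1 := by
      by_contra hcon
      push Not at hcon
      exact h4 ((Nat.prime_two.pow_dvd_iff_le_factorization Nat.card_pos.ne').2 hcon)
    have h6 : Nat.card V * V.relIndex (T : Subgroup G) = Nat.card (T : Subgroup G) := by
      have := relIndex_mul_relIndex (⊥ : Subgroup G) V (T : Subgroup G) bot_le hT
      rwa [relIndex_bot_left, relIndex_bot_left] at this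
    rw [h2, h3, ← h1, Nat.factorization_mul Nat.card_pos.ne' Nat.card_pos.ne', Finsupp.add_apply, pow_add,
      mul_comm (2 ^ _) (2 ^ (Nat.card N).factorization 2)] at h6
    have h7 := Nat.eq_of_mul_eq_mul_left (pow_pos (by norm_num) _) h6
    rw [h7]
    calc 2 ^ (Nat.card (Sylow r G)).factorization 2 ≤ 2 ^ 1 := Nat.pow_le_pow_right (by norm_num) h5
      _ = 2 := by norm_num
  have hVB : V.relIndex B ≤ 2 := by
    refine le_trans (Subgroup.relIndex_le_of_le_right hBT ?_) hVT
    exact Subgroup.index_ne_zero_of_finite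
  -- `V ∩ B` has at most one involution
  have hcard : Nat.card (V ⊓ B : Subgroup G) ≤ 2 := by
    by_contra hcon
    push Not at hcon
    have hBexp : ∀ b ∈ B, b ^ 2 = 1 := by
      rintro _ ⟨a, ha, rfl⟩
      rw [← map_pow, hexp a ha, map_one]
    have hone : ∀ x ∈ (V ⊓ B : Subgroup G), ∀ y ∈ (V ⊓ B : Subgroup G), x ≠ 1 → y ≠ 1 → x = y := by
      intro x hx y hy hx1 hy1
      exact eq_of_involutions hNA R R.isPGroup' hR1 hVp hVN hx.1 hy.1
        (orderOf_eq_prime (hBexp x hx.2) hx1) (orderOf_eq_prime (hBexp y hy.2) hy1)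
    have h1 : 1 < Nat.card (V ⊓ B : Subgroup G) := by omega
    haveI : Nontrivial (V ⊓ B : Subgroup G) := Finite.one_lt_card_iff_nontrivial.1 h1
    obtain ⟨x, hx⟩ := exists_ne (1 : (V ⊓ B : Subgroup G))
    have h2 : ∀ y : (V ⊓ B : Subgroup G), y = 1 ∨ y = x := by
      intro y
      by_cases hy : y = 1
      · exact Or.inl hy
      · right
        apply Subtype.ext
        exact hone y y.2 x x.2 (fun e => hy (Subtype.ext e)) (fun e => hx (Subtype.ext e))
    have h3 : Nat.card (V ⊓ B : Subgroup G) ≤ Nat.card Bool := by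
      refine Nat.card_le_card_of_surjective (fun b : Bool => if b then (1 : (V ⊓ B : Subgroup G)) else x) ?_
      intro y
      rcases h2 y with h | h
      · exact ⟨true, by simp [h]⟩
      · exact ⟨false, by simp [h]⟩
    have hB2 : Nat.card Bool = 2 := by rw [Nat.card_eq_fintype_card, Fintype.card_bool]
    rw [hB2] at h3
    omega
  have hfin : Nat.card B = Nat.card (V ⊓ B : Subgroup G) * V.relIndex B := by
    have := relIndex_mul_relIndex (⊥ : Subgroup G) (V ⊓ B) B bot_le inf_le_right
    rw [relIndex_bot_left, relIndex_bot_left, inf_relIndex_right] at this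
    exact this.symm
  rw [← hBcard, hfin]
  calc Nat.card (V ⊓ B : Subgroup G) * V.relIndex B ≤ 2 * 2 := Nat.mul_le_mul hcard hVB
    _ = 2 ^ 2 := by norm_num

end Cfsg.Agent.H947.Sq
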