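import Mathlib
import Cfsg.Agent.H947.SqRank
import Cfsg.Agent.CpAutON.Gen
import Cfsg.Agent.SmallSimple.SylFiveReduce
import Cfsg.Agent.S0242
import Cfsg.Agent.S0258
import Cfsg.Agent.S0262
import Cfsg.Agent.S0268

/-!
# Sylow numbers of `SL₂(q)`, `q` odd (helper947, for S4289)

For an odd prime `r ∣ q + 1` and `R ∈ Syl_r(SL₂(q))`: `p ∤ |N(R)|`, and `8 ∤ |N(R)|` if `q ≡ 1 mod 4`.
-/

set_option autoImplicit false
set_option linter.style.haveILetI false

namespace Cfsg.Agent.H947.Sq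

open Subgroup Matrix Cfsg.Agent.H482.SylowNumbers

theorem pow_dvd_left_of_mul {p i j a b : ℕ} (hp : p.Prime) (ha : a ≠ 0) (hb0 : b ≠ 0) (h : p ^ (i + j) ∣ a * b)
    (hb : ¬ p ^ (j + 1) ∣ b) : p ^ i ∣ a := by
  rw [hp.pow_dvd_iff_le_factorization hb0] at hb
  rw [hp.pow_dvd_iff_le_factorization (mul_ne_zero ha hb0), Nat.factorization_mul ha hb0, Finsupp.add_apply] at h
  rw [hp.pow_dvd_iff_le_factorization ha]
  omega

theorem card_sylow_of_le {G : Type*} [Group G] [Finite G] {p : ℕ} [Fact p.Prime] (N : Subgroup G) [N.Normal]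
    (P : Sylow p G) (hP : (P : Subgroup G) ≤ N) : Nat.card (Sylow p N) = Nat.card (Sylow p G) := by
  rw [Cfsg.Agent.SmallSimple.SylFiveReduce.card_sylow_subgroup P N hP,
    Cfsg.Agent.SmallSimple.SylFiveReduce.relIndex_eq_index_of_sup_eq_top _ _ (P.normalizer_sup_eq_top' hP),
    P.card_eq_index_normalizer]

theorem SqSy.of_central {G : Type*} [Group G] [Finite G] (h : SqSy (G ⧸ center G)) : SqSy G := by
  intro r hr
  haveI : Fact r.Prime := ⟨hr⟩
  have h1 := h r hr
  rwa [Cfsg.Agent.SmallSimple.SylFiveReduce.card_sylow_quotient (center G)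
    (fun P => (center_le_centralizer _).trans (centralizer_le_normalizer _))] at h1

section SLTwo

variable {F : Type*} [Field F] [Fintype F]

local notation "SL2" => Matrix.SpecialLinearGroup (Fin 2) F

/-- an element of odd prime order `r ∣ q + 1` is not lower triangular -/
theorem offdiag {r : ℕ} (hr : r.Prime) (hr2 : r ≠ 2) (hrq : r ∣ Fintype.card F + 1) {x : SL2}
    (hx : orderOf x = r) : x.1 0 1 ≠ 0 := by
  intro h0
  set q := Fintype.card F with hq
  have hq2 : 2 ≤ q := Fintype.one_lt_card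
  have hdet : x.1 0 0 * x.1 1 1 = 1 := by
    have h1 := x.2
    rw [Matrix.det_fin_two, h0] at h1
    simpa using h1
  have hpow : ∀ n : ℕ, (x ^ n).1 0 1 = 0 ∧ (x ^ n).1 0 0 = (x.1 0 0) ^ n := by
    intro n
    induction n with
    | zero => simp
    | succ n ih =>
      rw [pow_succ, Matrix.SpecialLinearGroup.coe_mul]
      refine ⟨?_, ?_⟩
      · rw [Matrix.mul_apply, Fin.sum_univ_two, ih.1, h0]; ring
      · rw [Matrix.mul_apply, Fin.sum_univ_two, ih.1, ih.2]; ring
  have hxr : x ^ r = 1 := by rw [← hx]; exact pow_orderOf_eq_one x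
  have ha : (x.1 0 0) ^ r = 1 := by
    rw [← (hpow r).2, hxr]; simp
  have ha0 : x.1 0 0 ≠ 0 := left_ne_zero_of_mul_eq_one hdet
  have ha' : (x.1 0 0) ^ (q - 1) = 1 := FiniteField.pow_card_sub_one_eq_one _ ha0
  have hgcd : Nat.gcd r (q - 1) = 1 := by
    have h1 : Nat.Coprime r (q - 1) := by
      rw [Nat.Prime.coprime_iff_not_dvd hr]
      intro h2
      have h3 : r ∣ 2 := by
        have h4 : r ∣ (q + 1) - (q - 1) := Nat.dvd_sub hrq h2
        rwa [show (q + 1) - (q - 1) = 2 by omega] at h4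
      exact hr2 ((Nat.prime_dvd_prime_iff_eq hr Nat.prime_two).1 h3)
    exact h1
  have ha1 : x.1 0 0 = 1 := by
    have h1 : orderOf (x.1 0 0) ∣ Nat.gcd r (q - 1) :=
      Nat.dvd_gcd (orderOf_dvd_of_pow_eq_one ha) (orderOf_dvd_of_pow_eq_one ha')
    rw [hgcd, Nat.dvd_one, orderOf_eq_one_iff] at h1
    exact h1
  have hd1 : x.1 1 1 = 1 := by rw [ha1, one_mul] at hdet; exact hdet
  have hc : ∀ n : ℕ, (x ^ n).1 1 0 = n * x.1 1 0 ∧ (x ^ n).1 1 1 = 1 := by
    intro n
    induction n with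
    | zero => simp
    | succ n ih =>
      rw [pow_succ, Matrix.SpecialLinearGroup.coe_mul]
      refine ⟨?_, ?_⟩
      · rw [Matrix.mul_apply, Fin.sum_univ_two, ih.1, ih.2, ha1]; push_cast; ring
      · rw [Matrix.mul_apply, Fin.sum_univ_two, ih.2, h0, hd1]; ring
  have hrF : (r : F) ≠ 0 := by
    intro h1
    obtain ⟨p, hp⟩ := CharP.exists F
    obtain ⟨m, hp', hm⟩ := FiniteField.card F p
    have h2 : p ∣ r := (CharP.cast_eq_zero_iff F p r).1 h1
    have h3 : p = r := (Nat.prime_dvd_prime_iff_eq hp' hr).1 h2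
    have h4 : r ∣ q := by rw [hq, hm, h3]; exact dvd_pow_self _ (PNat.ne_zero m)
    have h5 : r ∣ 1 := (Nat.dvd_add_right h4).1 hrq
    exact hr.one_lt.ne' (Nat.dvd_one.1 h5)
  have hc0 : x.1 1 0 = 0 := by
    have h1 := (hc r).1
    rw [hxr] at h1
    have h2 : (r : F) * x.1 1 0 = 0 := by
      rw [← h1]; simp
    exact (mul_eq_zero.1 h2).resolve_left hrF
  have hx1 : x = 1 := by
    ext i j
    fin_cases i <;> fin_cases j <;> simp [h0, ha1, hd1, hc0]
  rw [hx1, orderOf_one] at hx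
  exact hr.one_lt.ne hx

omit [Fintype F] in
/-- a matrix commuting with `x` is a polynomial in `x` -/
theorem eq_add_smul {x c : SL2} (hx : x.1 0 1 ≠ 0) (hc : c * x = x * c) :
    ∃ a b : F, c.1 = a • (1 : Matrix (Fin 2) (Fin 2) F) + b • x.1 := by
  have h := congrArg (fun m : SL2 => m.1) hc
  simp only [Matrix.SpecialLinearGroup.coe_mul] at h
  have h00 := congrFun (congrFun h 0) 0
  have h01 := congrFun (congrFun h 0) 1
  simp only [Matrix.mul_apply, Fin.sum_univ_two] at h00 h01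
  refine ⟨c.1 0 0 - c.1 0 1 / x.1 0 1 * x.1 0 0, c.1 0 1 / x.1 0 1, ?_⟩
  ext i j
  fin_cases i <;> fin_cases j
  · simp
  · simp [hx]
  · simp
    field_simp
    linear_combination -h00
  · simp
    field_simp
    linear_combination -h01

omit [Fintype F] in
theorem coe_inv (x : SL2) : (x⁻¹).1 = x.1.trace • (1 : Matrix (Fin 2) (Fin 2) F) - x.1 := by
  rw [Matrix.SpecialLinearGroup.coe_inv, Matrix.adjugate_fin_two, Matrix.trace_fin_two]
  ext i j
  fin_cases i <;> fin_cases j <;> simp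

/-- `c ^ (q + 1) = 1` for `c` commuting with `x` -/
theorem pow_card_succ {r : ℕ} (hrq : r ∣ Fintype.card F + 1) {x c : SL2} (hx : orderOf x = r)
    (hx0 : x.1 0 1 ≠ 0) (hc : c * x = x * c) : c ^ (Fintype.card F + 1) = 1 := by
  obtain ⟨a, b, hab⟩ := eq_add_smul hx0 hc
  obtain ⟨p, hp⟩ := CharP.exists F
  obtain ⟨m, hp', hm⟩ := FiniteField.card F p
  haveI : Fact p.Prime := ⟨hp'⟩
  have hcomm : Commute (a • (1 : Matrix (Fin 2) (Fin 2) F)) (b • x.1) := by
    apply Commute.smul_left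
    exact Commute.one_left _
  have hxq : x ^ Fintype.card F = x⁻¹ := by
    rw [eq_inv_iff_mul_eq_one, ← pow_succ]
    exact orderOf_dvd_iff_pow_eq_one.1 (hx ▸ hrq)
  have h1 : c.1 ^ Fintype.card F = a • (1 : Matrix (Fin 2) (Fin 2) F) + b • (x⁻¹).1 := by
    rw [hab, hm, add_pow_char_pow_of_commute _ _ hcomm, ← hm, smul_pow, smul_pow, one_pow,
      FiniteField.pow_card, FiniteField.pow_card]
    congr 2
    rw [← hxq]; simp
  have h2 : (c ^ (Fintype.card F + 1)).1 = 1 := by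
    rw [pow_succ, Matrix.SpecialLinearGroup.coe_mul, Matrix.SpecialLinearGroup.coe_pow, h1, coe_inv, hab]
    have hdx := x.2
    have hdc := c.2
    rw [hab] at hdc
    rw [Matrix.det_fin_two] at hdx hdc
    simp at hdc
    rw [Matrix.trace_fin_two]
    ext i j
    fin_cases i <;> fin_cases j
    · simp [Matrix.mul_apply, Fin.sum_univ_two]
      linear_combination hdc
    · simp [Matrix.mul_apply, Fin.sum_univ_two]
      ring
    · simp [Matrix.mul_apply, Fin.sum_univ_two]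
      ring
    · simp [Matrix.mul_apply, Fin.sum_univ_two]
      linear_combination hdc
  exact Subtype.ext h2

omit [Fintype F] in
/-- if `c` commutes with `x` and has the same trace then `c = x^{±1}` -/
theorem eq_or_eq_inv {x c : SL2} (hx0 : x.1 0 1 ≠ 0) (ht : x.1.trace ^ 2 ≠ 4) (h2 : (2 : F) ≠ 0)
    (hc : c * x = x * c) (hct : c.1.trace = x.1.trace) : c = x ∨ c = x⁻¹ := by
  obtain ⟨a, b, hab⟩ := eq_add_smul hx0 hc
  have hdx := x.2
  have hdc := c.2
  rw [hab] at hdc hct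
  rw [Matrix.det_fin_two] at hdx hdc
  simp at hdc hct
  rw [Matrix.trace_fin_two] at ht hct
  have h1 : (b - 1) * (b + 1) = 0 := by
    have h3 : ((x.1 0 0 + x.1 1 1) ^ 2 - 4) * ((b - 1) * (b + 1)) = 0 := by
      linear_combination (-4) * hdc + ((x.1 0 0 + x.1 1 1) + 2 * a + (x.1 0 0 + x.1 1 1) * b) * hct + 4 * b ^ 2 * hdx
    exact (mul_eq_zero.1 h3).resolve_left (sub_ne_zero.2 ht)
  rcases mul_eq_zero.1 h1 with h | h
  · left
    have hb : b = 1 := sub_eq_zero.1 h
    rw [hb] at hab hct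
    have ha : a = 0 := by
      have : 2 * a = 0 := by linear_combination hct
      exact (mul_eq_zero.1 this).resolve_left h2
    apply Subtype.ext
    rw [hab, ha, zero_smul, one_smul, zero_add]
  · right
    have hb : b = -1 := by linear_combination h
    apply Subtype.ext
    rw [coe_inv, hab, hb]
    have ha : a = x.1.trace := by
      rw [Matrix.trace_fin_two]
      have : 2 * (a - (x.1 0 0 + x.1 1 1)) = 0 := by
        rw [hb] at hct
        linear_combination hct
      exact sub_eq_zero.1 ((mul_eq_zero.1 this).resolve_left h2)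
    rw [ha, neg_smul, one_smul, sub_eq_add_neg]

/-- the trace of an element of prime order `r ∤ 2 p` -/
theorem trace_sq_ne {r : ℕ} (hr : r.Prime) (hr2 : r ≠ 2) (hrq : r ∣ Fintype.card F + 1) {x : SL2}
    (hx : orderOf x = r) : x.1.trace ^ 2 ≠ 4 := by
  intro ht
  obtain ⟨p, hp⟩ := CharP.exists F
  obtain ⟨m, hp', hm⟩ := FiniteField.card F p
  haveI : Fact p.Prime := ⟨hp'⟩
  -- `(x ^ 2 - 1) ^ 2 = 0`
  have hCH : x.1 * x.1 = x.1.trace • x.1 - 1 := by
    have hdx := x.2
    rw [Matrix.det_fin_two] at hdx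
    rw [Matrix.trace_fin_two]
    ext i j
    fin_cases i <;> fin_cases j
    · simp [Matrix.mul_apply, Fin.sum_univ_two]
      linear_combination -hdx
    · simp [Matrix.mul_apply, Fin.sum_univ_two]
      ring
    · simp [Matrix.mul_apply, Fin.sum_univ_two]
      ring
    · simp [Matrix.mul_apply, Fin.sum_univ_two]
      linear_combination -hdx
  have h1 : (x.1 * x.1 - 1) * (x.1 * x.1 - 1) = 0 := by
    have h3 : ∀ t : F, x.1 * x.1 = t • x.1 - 1 → (x.1 * x.1 - 1) * (x.1 * x.1 - 1) = (t ^ 2 - 4) • (x.1 * x.1) := by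
      intro t h
      have e1 : x.1 * x.1 + 1 = t • x.1 := by rw [h]; abel
      have e2 : (x.1 * x.1 - 1) * (x.1 * x.1 - 1) =
          (x.1 * x.1 + 1) * (x.1 * x.1 + 1) - (4 : F) • (x.1 * x.1) := by
        have e3 : (4 : F) • (x.1 * x.1) = 4 * (x.1 * x.1) := by
          rw [Algebra.smul_def, map_ofNat]
        rw [e3]
        noncomm_ring
      rw [e2, e1, smul_mul_smul_comm, ← pow_two, ← sub_smul, pow_two]
    rw [h3 _ hCH, ht, sub_self, zero_smul]
  have h2 : (x.1 * x.1 - 1) ^ p = 0 := by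
    obtain ⟨k, hk⟩ : ∃ k, p = 2 + k := ⟨p - 2, by have := hp'.two_le; omega⟩
    rw [hk, pow_add, pow_two, h1, zero_mul]
  have h3 : x ^ (2 * p) = 1 := by
    apply Subtype.ext
    have h4 : (x.1 * x.1 - 1) ^ p = (x.1 * x.1) ^ p - 1 ^ p := sub_pow_char_of_commute _ (Commute.one_right _)
    rw [h2, one_pow] at h4
    rw [Matrix.SpecialLinearGroup.coe_pow, pow_mul, pow_two]
    exact (sub_eq_zero.1 h4.symm)
  have h4 : r ∣ 2 * p := by rw [← hx]; exact orderOf_dvd_of_pow_eq_one h3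
  rcases (Nat.Prime.dvd_mul hr).1 h4 with h5 | h5
  · exact hr2 ((Nat.prime_dvd_prime_iff_eq hr Nat.prime_two).1 h5)
  · have h6 : r ∣ Fintype.card F := h5.trans (by rw [hm]; exact dvd_pow_self _ (PNat.ne_zero m))
    exact hr.one_lt.ne' (Nat.dvd_one.1 ((Nat.dvd_add_right h6).1 hrq))

theorem not_dvd_card_centralizer {r : ℕ} (hrq : r ∣ Fintype.card F + 1) {x : SL2} (hx : orderOf x = r)
    (hx0 : x.1 0 1 ≠ 0) {p : ℕ} (hp : p.Prime) (hpq : p ∣ Fintype.card F) :
    ¬ p ∣ Nat.card (centralizer ({x} : Set SL2)) := by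
  intro h
  haveI : Fact p.Prime := ⟨hp⟩
  obtain ⟨c, hc⟩ := exists_prime_orderOf_dvd_card' p h
  have h1 : (c : SL2) ^ (Fintype.card F + 1) = 1 :=
    pow_card_succ hrq hx hx0 (mem_centralizer_singleton_iff.1 c.2)
  have h2 : p ∣ Fintype.card F + 1 := by
    rw [← hc, ← Subgroup.orderOf_coe]; exact orderOf_dvd_of_pow_eq_one h1
  exact hp.one_lt.ne' (Nat.dvd_one.1 ((Nat.dvd_add_right hpq).1 h2))

theorem not_four_dvd_card_centralizer {r : ℕ} (hrq : r ∣ Fintype.card F + 1) {x : SL2} (hx : orderOf x = r)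
    (hx0 : x.1 0 1 ≠ 0) (h4 : Fintype.card F % 4 = 1) :
    ¬ 4 ∣ Nat.card (centralizer ({x} : Set SL2)) := by
  classical
  intro h
  haveI : Fact (Nat.Prime 2) := ⟨Nat.prime_two⟩
  have hodd : Odd (Fintype.card F) := Nat.odd_iff.2 (by omega)
  obtain ⟨K, hK⟩ := Sylow.exists_subgroup_card_pow_prime 2 (n := 2) (G := centralizer ({x} : Set SL2)) (by simpa using h)
  have hall : ∀ y ∈ K, ((y : SL2) : Matrix (Fin 2) (Fin 2) F) = 1 ∨ ((y : SL2) : Matrix (Fin 2) (Fin 2) F) = -1 := by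
    intro y hy
    have h1 : (y : SL2) ^ (Fintype.card F + 1) = 1 := pow_card_succ hrq hx hx0 (mem_centralizer_singleton_iff.1 y.2)
    have h2 : (y : SL2) ^ 4 = 1 := by
      have h3 : (⟨y, hy⟩ : K) ^ Nat.card K = 1 := pow_card_eq_one'
      rw [hK] at h3
      have h4 := congrArg (fun z : K => ((z : centralizer ({x} : Set SL2)) : SL2)) h3
      simpa using h4
    have h5 : (y : SL2) ^ 2 = 1 := by
      have h6 : orderOf (y : SL2) ∣ Nat.gcd (Fintype.card F + 1) 4 :=
        Nat.dvd_gcd (orderOf_dvd_of_pow_eq_one h1) (orderOf_dvd_of_pow_eq_one h2)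
      have h7 : Nat.gcd (Fintype.card F + 1) 4 = 2 := by
        rw [Nat.gcd_comm, Nat.gcd_rec]
        rw [show (Fintype.card F + 1) % 4 = 2 by omega]
        norm_num
      rw [h7] at h6
      exact orderOf_dvd_iff_pow_eq_one.1 h6
    by_cases hy1 : (y : SL2) = 1
    · left; rw [hy1]; simp
    · right
      exact Cfsg.Agent.S0268.result hodd _ hy1 (by rw [← pow_two]; exact h5)
  have hle : Nat.card K ≤ Nat.card Bool := by
    refine Nat.card_le_card_of_injective
      (fun y : K => decide ((((y : centralizer ({x} : Set SL2)) : SL2) : Matrix (Fin 2) (Fin 2) F) = 1)) ?_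
    intro y z hyz
    have hyz' : ((((y : centralizer ({x} : Set SL2)) : SL2) : Matrix (Fin 2) (Fin 2) F) = 1) ↔
      ((((z : centralizer ({x} : Set SL2)) : SL2) : Matrix (Fin 2) (Fin 2) F) = 1) := by
      simpa using hyz
    apply Subtype.ext
    apply Subtype.ext
    apply Subtype.ext
    by_cases h1 : ((((y : centralizer ({x} : Set SL2)) : SL2) : Matrix (Fin 2) (Fin 2) F) = 1)
    · exact h1.trans (hyz'.1 h1).symm
    · have h2 : ¬ ((((z : centralizer ({x} : Set SL2)) : SL2) : Matrix (Fin 2) (Fin 2) F) = 1) := fun h => h1 (hyz'.2 h)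
      exact ((hall y y.2).resolve_left h1).trans ((hall z z.2).resolve_left h2).symm
  rw [hK, Nat.card_eq_fintype_card, Fintype.card_bool] at hle
  omega

theorem two_ne_zero_of_odd (hodd : Odd (Fintype.card F)) : (2 : F) ≠ 0 := by
  intro h0
  obtain ⟨p, hp⟩ := CharP.exists F
  obtain ⟨m, hp', hm⟩ := FiniteField.card F p
  have h1 : p ∣ 2 := (CharP.cast_eq_zero_iff F p 2).1 (by exact_mod_cast h0)
  have h2 : p = 2 := (Nat.prime_dvd_prime_iff_eq hp' Nat.prime_two).1 h1
  have h3 : 2 ∣ Fintype.card F := by rw [hm, h2]; exact dvd_pow_self _ (PNat.ne_zero m)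
  obtain ⟨k, hk⟩ := hodd
  omega

theorem conj_eq {r : ℕ} (hr : r.Prime) (hr2 : r ≠ 2) (hrq : r ∣ Fintype.card F + 1) (hodd : Odd (Fintype.card F))
    {x : SL2} (hx : orderOf x = r) {g : SL2} (hg : (g * x * g⁻¹) * x = x * (g * x * g⁻¹)) :
    g * x * g⁻¹ = x ∨ g * x * g⁻¹ = x⁻¹ := by
  refine eq_or_eq_inv (offdiag hr hr2 hrq hx) (trace_sq_ne hr hr2 hrq hx) (two_ne_zero_of_odd hodd) hg ?_
  rw [Matrix.SpecialLinearGroup.coe_mul, Matrix.SpecialLinearGroup.coe_mul, Matrix.trace_mul_cycle,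
    ← Matrix.SpecialLinearGroup.coe_mul, inv_mul_cancel, Matrix.SpecialLinearGroup.coe_one, one_mul]

theorem card_range_dvd {r : ℕ} (hr : r.Prime) (hr2 : r ≠ 2) (hrq : r ∣ Fintype.card F + 1)
    (hodd : Odd (Fintype.card F)) {x : SL2} (hx : orderOf x = r) :
    Nat.card ↥((zpowers x).normalizerMonoidHom).range ∣ 2 := by
  classical
  set f := (zpowers x).normalizerMonoidHom with hf
  have hval : ∀ g, ((f g ⟨x, mem_zpowers x⟩ : zpowers x) : SL2) = x ∨ ((f g ⟨x, mem_zpowers x⟩ : zpowers x) : SL2) = x⁻¹ := by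
    intro g
    have h1 : ((f g ⟨x, mem_zpowers x⟩ : zpowers x) : SL2) = g * x * (g : SL2)⁻¹ := rfl
    rw [h1]
    apply conj_eq hr hr2 hrq hodd hx
    obtain ⟨k, hk⟩ := mem_zpowers_iff.1 (h1 ▸ (f g ⟨x, mem_zpowers x⟩).2)
    rw [← hk]
    exact ((Commute.refl x).zpow_left k).eq
  have hinj : Function.Injective (fun φ : f.range => decide (((φ : MulAut (zpowers x)) ⟨x, mem_zpowers x⟩ : SL2) = x)) := by
    rintro ⟨_, g, rfl⟩ ⟨_, k, rfl⟩ h
    apply Subtype.ext
    apply MulEquiv.ext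
    have h1 : f g ⟨x, mem_zpowers x⟩ = f k ⟨x, mem_zpowers x⟩ := by
      have h2 : ((f g ⟨x, mem_zpowers x⟩ : zpowers x) : SL2) = x ↔ ((f k ⟨x, mem_zpowers x⟩ : zpowers x) : SL2) = x := by
        simpa using h
      apply Subtype.ext
      rcases hval g with e | e
      · rw [e, h2.1 e]
      · rcases hval k with e' | e'
        · rw [h2.2 e', e']
        · rw [e, e']
    rintro ⟨y, hy⟩
    obtain ⟨n, rfl⟩ := mem_zpowers_iff.1 hy
    have h3 : (⟨x ^ n, hy⟩ : zpowers x) = (⟨x, mem_zpowers x⟩ : zpowers x) ^ n := Subtype.ext (by simp)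
    show f g ⟨x ^ n, hy⟩ = f k ⟨x ^ n, hy⟩
    rw [h3, map_zpow, map_zpow, h1]
  have hle := Nat.card_le_card_of_injective _ hinj
  rw [Nat.card_eq_fintype_card (α := Bool), Fintype.card_bool] at hle
  have hpos : 0 < Nat.card f.range := Nat.card_pos
  interval_cases (Nat.card f.range) <;> norm_num

/-- the normaliser of `⟨x⟩` -/
theorem not_dvd_normalizer_zpowers {r : ℕ} (hr : r.Prime) (hr2 : r ≠ 2) (hrq : r ∣ Fintype.card F + 1)
    (hodd : Odd (Fintype.card F)) {x : SL2} (hx : orderOf x = r) {p : ℕ} (hp : p.Prime) (hpq : p ∣ Fintype.card F) :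
    ¬ p ∣ Nat.card (normalizer ((zpowers x : Subgroup SL2) : Set SL2)) := by
  rw [Cfsg.Agent.CpAutON.Gen.card_normalizer, hp.dvd_mul]
  rintro (h | h)
  · exact not_dvd_card_centralizer hrq hx (offdiag hr hr2 hrq hx) hp hpq h
  · have h1 := h.trans (card_range_dvd hr hr2 hrq hodd hx)
    have h2 : p = 2 := (Nat.prime_dvd_prime_iff_eq hp Nat.prime_two).1 h1
    rw [h2] at hpq
    obtain ⟨k, hk⟩ := hodd
    omega

theorem not_eight_dvd_normalizer_zpowers {r : ℕ} (hr : r.Prime) (hr2 : r ≠ 2) (hrq : r ∣ Fintype.card F + 1)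
    (h4 : Fintype.card F % 4 = 1) {x : SL2} (hx : orderOf x = r) :
    ¬ 8 ∣ Nat.card (normalizer ((zpowers x : Subgroup SL2) : Set SL2)) := by
  have hodd : Odd (Fintype.card F) := Nat.odd_iff.2 (by omega)
  intro h
  rw [Cfsg.Agent.CpAutON.Gen.card_normalizer] at h
  have h1 : 8 ∣ Nat.card (centralizer ({x} : Set SL2)) * 2 :=
    h.trans (mul_dvd_mul dvd_rfl (card_range_dvd hr hr2 hrq hodd hx))
  exact not_four_dvd_card_centralizer hrq hx (offdiag hr hr2 hrq hx) h4 (by omega)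

/-- the normaliser of a Sylow `r`-subgroup normalises the subgroup of order `r` -/
theorem exists_normalizer_le {r : ℕ} [hrF : Fact r.Prime] (hr2 : r ≠ 2) (hrq : r ∣ Fintype.card F + 1)
    (hodd : Odd (Fintype.card F)) (R : Sylow r SL2) (hd : r ∣ Nat.card SL2) :
    ∃ x : SL2, orderOf x = r ∧ normalizer ((R : Subgroup SL2) : Set SL2) ≤
      normalizer ((zpowers x : Subgroup SL2) : Set SL2) := by
  have hr := hrF.out
  obtain ⟨p, hp⟩ := CharP.exists F
  obtain ⟨m, hp', hm⟩ := FiniteField.card F p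
  haveI : Fact p.Prime := ⟨hp'⟩
  have hrp : r ≠ p := by
    rintro rfl
    have h6 : r ∣ Fintype.card F := by rw [hm]; exact dvd_pow_self _ (PNat.ne_zero m)
    exact hr.one_lt.ne' (Nat.dvd_one.1 ((Nat.dvd_add_right h6).1 hrq))
  have hcyc : IsCyclic (R : Subgroup SL2) := Cfsg.Agent.S0262.result p r hr2 hrp R
  have hR1 : r ∣ Nat.card (R : Subgroup SL2) := R.dvd_card_of_dvd_card hd
  obtain ⟨x, hx⟩ := exists_prime_orderOf_dvd_card' r hR1
  have hxo : orderOf (x : SL2) = r := by rw [Subgroup.orderOf_coe, hx]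
  refine ⟨x, hxo, ?_⟩
  have hcomm : ∀ a b : (R : Subgroup SL2), a * b = b * a := by
    intro a b
    letI := IsCyclic.commGroup (α := (R : Subgroup SL2))
    exact mul_comm a b
  have hstep : ∀ g ∈ normalizer ((R : Subgroup SL2) : Set SL2), g * x * g⁻¹ ∈ zpowers (x : SL2) := by
    intro g hg
    have h1 : g * (x : SL2) * g⁻¹ ∈ (R : Subgroup SL2) := (mem_normalizer_iff.1 hg _).1 x.2
    have h2 : (g * (x : SL2) * g⁻¹) * x = x * (g * (x : SL2) * g⁻¹) :=
      congrArg Subtype.val (hcomm ⟨_, h1⟩ x)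
    rcases conj_eq hr hr2 hrq hodd hxo h2 with e | e
    · rw [e]; exact mem_zpowers _
    · rw [e]; exact (zpowers (x : SL2)).inv_mem (mem_zpowers _)
  intro g hg
  have hle : (zpowers (x : SL2)).map (MulAut.conj g).toMonoidHom ≤ zpowers (x : SL2) := by
    rw [MonoidHom.map_zpowers, zpowers_le]
    exact hstep g hg
  have heq : (zpowers (x : SL2)).map (MulAut.conj g).toMonoidHom = zpowers (x : SL2) := by
    apply Subgroup.eq_of_le_of_card_ge hle
    exact (Subgroup.card_map_of_injective (MulAut.conj g).injective).ge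
  rw [mem_normalizer_iff_map_conj_eq]
  exact heq

theorem card_SL2 : Nat.card SL2 = Fintype.card F * ((Fintype.card F - 1) * (Fintype.card F + 1)) := by
  have h := Cfsg.Agent.S0242.result (F := F) rfl 2 (by norm_num)
  have hq : 2 ≤ Fintype.card F := Fintype.one_lt_card
  rw [Fin.prod_univ_two] at h
  obtain ⟨k, hk⟩ : ∃ k, Fintype.card F = k + 2 := ⟨Fintype.card F - 2, by omega⟩
  rw [hk] at h ⊢
  have h1 : (k + 2) ^ 2 - (k + 2) ^ ((0 : Fin 2) : ℕ) = (k + 1) * (k + 3) := by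
    simp; rw [show (k + 2) ^ 2 = (k + 1) * (k + 3) + 1 by ring]; simp
  have h2 : (k + 2) ^ 2 - (k + 2) ^ ((1 : Fin 2) : ℕ) = (k + 2) * (k + 1) := by
    simp; rw [show (k + 2) ^ 2 = (k + 2) * (k + 1) + (k + 2) by ring]; simp
  rw [h1, h2, show k + 2 - 1 = k + 1 by omega] at h
  rw [show k + 2 - 1 = k + 1 by omega]
  apply Nat.eq_of_mul_eq_mul_left (Nat.succ_pos k)
  rw [show k.succ = k + 1 from rfl, h]
  ring

/-- the Sylow numbers of `SL₂(q)`, `q ≡ 1 mod 4` -/
theorem SqSy.psl2_one (h : SqSy SL2) (h4 : Fintype.card F % 4 = 1) (h5 : 5 ≤ Fintype.card F) :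
    (Fintype.card F).Prime ∧ Fintype.card F % 8 = 5 := by
  have hodd : Odd (Fintype.card F) := Nat.odd_iff.2 (by omega)
  -- an odd prime divisor of `q + 1`
  obtain ⟨r, hr, hrq, hr2⟩ : ∃ r : ℕ, r.Prime ∧ r ∣ Fintype.card F + 1 ∧ r ≠ 2 := by
    have h1 : (Fintype.card F + 1) / 2 ≠ 1 := by omega
    obtain ⟨r, hr, hrd⟩ := Nat.exists_prime_and_dvd h1
    have h2 : (Fintype.card F + 1) / 2 * 2 = Fintype.card F + 1 := by omega
    refine ⟨r, hr, ?_, ?_⟩
    · rw [← h2]; exact hrd.mul_right 2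
    · rintro rfl
      omega
  haveI : Fact r.Prime := ⟨hr⟩
  obtain ⟨R⟩ : Nonempty (Sylow r SL2) := inferInstance
  have hd : r ∣ Nat.card SL2 := by
    rw [card_SL2]; exact (hrq.mul_left _).mul_left _
  obtain ⟨x, hx, hle⟩ := exists_normalizer_le hr2 hrq hodd R hd
  have hN := card_dvd_of_le hle
  have hmul := card_sylow_mul R
  rw [card_SL2] at hmul
  obtain ⟨p, hp⟩ := CharP.exists F
  obtain ⟨m, hp', hm⟩ := FiniteField.card F p
  have hp1 : ¬ p ∣ Nat.card (normalizer ((R : Subgroup SL2) : Set SL2)) := fun hcon =>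
    not_dvd_normalizer_zpowers hr hr2 hrq hodd hx hp' (by rw [hm]; exact dvd_pow_self _ (PNat.ne_zero m)) (hcon.trans hN)
  have h8 : ¬ 8 ∣ Nat.card (normalizer ((R : Subgroup SL2) : Set SL2)) := fun hcon =>
    not_eight_dvd_normalizer_zpowers hr hr2 hrq h4 hx (hcon.trans hN)
  have h8' : Fintype.card F % 8 = 5 := by
    by_contra hcon
    have h1 : Fintype.card F % 8 = 1 := by omega
    have h16 : 16 ∣ Nat.card (Sylow r SL2) * Nat.card (normalizer ((R : Subgroup SL2) : Set SL2)) := by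
      rw [hmul]
      apply Dvd.dvd.mul_left
      exact mul_dvd_mul (a := 8) (b := Fintype.card F - 1) (c := 2) (by omega) (by omega)
    exact not_four_dvd h hr (pow_dvd_left_of_mul (i := 2) (j := 2) Nat.prime_two Nat.card_pos.ne' Nat.card_pos.ne'
      (by simpa using h16) (by simpa using h8))
  refine ⟨?_, h8'⟩
  have hm1 : (m : ℕ) = 1 := by
    by_contra hcon
    have hm2 : 2 ≤ (m : ℕ) := by have := m.pos; omega
    apply not_sq_dvd h hr hp'
    have h1 : p ^ 2 ∣ Nat.card (Sylow r SL2) * Nat.card (normalizer ((R : Subgroup SL2) : Set SL2)) := by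
      rw [hmul]
      apply Dvd.dvd.mul_right
      rw [hm]
      exact pow_dvd_pow p hm2
    refine Nat.Coprime.dvd_of_dvd_mul_right ?_ h1
    exact (Nat.Coprime.pow_left 2 ((Nat.Prime.coprime_iff_not_dvd hp').2 hp1))
  rw [hm, hm1, pow_one]
  exact hp'

/-- the number of Sylow `p`-subgroups of `SL₂(q)` -/
theorem card_sylow_SL2 (p : ℕ) [Fact p.Prime] [CharP F p] : Nat.card (Sylow p SL2) = Fintype.card F + 1 := by
  classical
  rw [← Cfsg.Agent.S0258.result (F := F) rfl p]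
  set N := (Matrix.GeneralLinearGroup.det : Matrix.GeneralLinearGroup (Fin 2) F →* Fˣ).ker with hN
  obtain ⟨P⟩ : Nonempty (Sylow p (Matrix.GeneralLinearGroup (Fin 2) F)) := inferInstance
  obtain ⟨m, hp', hm⟩ := FiniteField.card F p
  have hP : (P : Subgroup (Matrix.GeneralLinearGroup (Fin 2) F)) ≤ N := by
    intro g hg
    rw [hN, MonoidHom.mem_ker]
    obtain ⟨k, hk⟩ := IsPGroup.iff_orderOf.1 P.isPGroup' ⟨g, hg⟩
    rw [Subgroup.orderOf_mk] at hk
    have h1 : orderOf (Matrix.GeneralLinearGroup.det g) ∣ p ^ k := by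
      rw [← hk]; exact orderOf_map_dvd _ g
    have h2 : orderOf (Matrix.GeneralLinearGroup.det g) ∣ Fintype.card F - 1 := by
      rw [← Fintype.card_units]; exact orderOf_dvd_card
    have h3 : Nat.Coprime (p ^ k) (Fintype.card F - 1) := by
      apply Nat.Coprime.pow_left
      rw [Nat.Prime.coprime_iff_not_dvd hp']
      intro h4
      have h5 : p ∣ Fintype.card F := by rw [hm]; exact dvd_pow_self _ (PNat.ne_zero m)
      have h6 : p ∣ Fintype.card F - (Fintype.card F - 1) := Nat.dvd_sub h5 h4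
      have h7 : Fintype.card F - (Fintype.card F - 1) = 1 := by
        have : 1 < Fintype.card F := Fintype.one_lt_card
        omega
      rw [h7] at h6
      exact hp'.one_lt.ne' (Nat.dvd_one.1 h6)
    have h4 := Nat.dvd_gcd h1 h2
    rw [h3.gcd_eq_one, Nat.dvd_one, orderOf_eq_one_iff] at h4
    exact h4
  rw [← card_sylow_of_le N P hP]
  have hr : (Matrix.SpecialLinearGroup.toGL : SL2 →* Matrix.GeneralLinearGroup (Fin 2) F).range = N := by
    ext g
    rw [hN, MonoidHom.mem_ker, MonoidHom.mem_range]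
    constructor
    · rintro ⟨s, rfl⟩
      exact Matrix.SpecialLinearGroup.coeToGL_det s
    · intro hg
      refine ⟨⟨g.1, ?_⟩, Units.ext rfl⟩
      have := congrArg Units.val hg
      simpa using this
  have e : SL2 ≃* N :=
    (MonoidHom.ofInjective Matrix.SpecialLinearGroup.toGL_injective).trans (MulEquiv.subgroupCongr hr)
  exact card_sylow_congr p e

/-- **the Sylow numbers of `PSL₂(q)`** -/
theorem SqSy.psl2 (h : SqSy (Matrix.ProjectiveSpecialLinearGroup (Fin 2) F)) (hodd : Odd (Fintype.card F))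
    (h5 : 5 ≤ Fintype.card F) : (Fintype.card F).Prime ∧ Fintype.card F % 8 = 5 := by
  have hSL : SqSy SL2 := SqSy.of_central h
  refine hSL.psl2_one ?_ h5
  obtain ⟨p, hp⟩ := CharP.exists F
  obtain ⟨m, hp', hm⟩ := FiniteField.card F p
  haveI : Fact p.Prime := ⟨hp'⟩
  have h1 := not_four_dvd hSL hp'
  rw [card_sylow_SL2 p] at h1
  obtain ⟨k, hk⟩ := hodd
  omega

end SLTwo

end Cfsg.Agent.H947.Sq
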