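import Mathlib
import Cfsg.Agent.H947.SqLin2
import Cfsg.Agent.H150.Fpf

/-!
# Sylow numbers of subgroups of `SL₃(Q)`, `Q` odd (helper947, for S4289)

For a prime `r` with `Q` of order `3` modulo `r` and a Sylow `r`-subgroup `R ≠ 1` of a subgroup `G` of `SL₃(Q)`:
`|N_G(R)|` is odd.
-/

set_option autoImplicit false
set_option linter.style.haveILetI false

namespace Cfsg.Agent.H947.Sq

open Subgroup Matrix Module Cfsg.Agent.H482.SylowNumbers

section Lin

variable {K : Type*} [Field K] {V : Type*} [AddCommGroup V] [Module K V]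

/-- an element `x ≠ 1` of order `r` has no nonzero fixed vector in dimension three -/
theorem fpf_three [Finite K] [FiniteDimensional K V] (hV : finrank K V = 3) {r : ℕ} (hr : r.Prime)
    (ho : orderOf ((Nat.card K : ℕ) : ZMod r) = 3) (hrK : (r : K) ≠ 0) (x : V →ₗ[K] V) (hx : x ^ r = 1) (hx1 : x ≠ 1) :
    ∀ v, x v = v → v = 0 := by
  have hc := Cfsg.Agent.H150.isCompl_fix hrK x hx
  have h3 : orderOf ((Nat.card K : ℕ) : ZMod r) ∣ finrank K (LinearMap.range (x - 1)) := by
    apply Cfsg.Agent.H150.dvd_finrank_of_fpf_submodule hr x hx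
    · rintro _ ⟨w, rfl⟩
      exact ⟨x w, by simp⟩
    · exact Cfsg.Agent.H150.fpf_range hrK x hx
  rw [ho] at h3
  have hpos : 0 < finrank K (LinearMap.range (x - 1)) := by
    rw [Module.finrank_pos_iff]
    refine Submodule.nontrivial_iff_ne_bot.2 fun h => hx1 ?_
    rwa [LinearMap.range_eq_bot, sub_eq_zero] at h
  have hle := Nat.le_of_dvd hpos h3
  have hsum := LinearMap.finrank_range_add_finrank_ker (x - 1)
  rw [hV] at hsum
  have hk : finrank K (LinearMap.ker (x - 1)) = 0 := by omega
  rw [Submodule.finrank_eq_zero] at hk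
  intro v hv
  have : v ∈ LinearMap.ker (x - 1) := by
    rw [LinearMap.mem_ker, LinearMap.sub_apply, Module.End.one_apply, hv, sub_self]
  rw [hk] at this
  exact (Submodule.mem_bot K).1 this

/-- an involution `≠ -1` does not commute with `x` -/
theorem not_commute_three [Finite K] [FiniteDimensional K V] (hV : finrank K V = 3) {r : ℕ} (hr : r.Prime)
    (ho : orderOf ((Nat.card K : ℕ) : ZMod r) = 3) (hrK : (r : K) ≠ 0) (x t : V →ₗ[K] V)
    (hx : x ^ r = 1) (hx1 : x ≠ 1) (ht : t * t = 1) (ht1 : t ≠ 1) (ht2 : t ≠ -1) : x * t ≠ t * x := by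
  intro hcomm
  have hf := fpf_three hV hr ho hrK x hx hx1
  have h1 : 3 ∣ finrank K (LinearMap.ker (t - 1)) := by
    rw [← ho]
    apply Cfsg.Agent.H150.dvd_finrank_of_fpf_submodule hr x hx
    · intro w hw
      rw [LinearMap.mem_ker, LinearMap.sub_apply, Module.End.one_apply, sub_eq_zero] at hw ⊢
      have := LinearMap.congr_fun hcomm w
      rw [Module.End.mul_apply, Module.End.mul_apply, hw] at this
      exact this.symm
    · intro v _ hv; exact hf v hv
  have h3 : 3 ∣ finrank K (LinearMap.ker (t + 1)) := by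
    rw [← ho]
    apply Cfsg.Agent.H150.dvd_finrank_of_fpf_submodule hr x hx
    · intro w hw
      rw [LinearMap.mem_ker, LinearMap.add_apply, Module.End.one_apply, add_eq_zero_iff_eq_neg] at hw ⊢
      have := LinearMap.congr_fun hcomm w
      rw [Module.End.mul_apply, Module.End.mul_apply, hw, map_neg] at this
      exact this.symm
    · intro v _ hv; exact hf v hv
  -- the eigenspaces are complementary
  have hle1 : finrank K (LinearMap.ker (t - 1)) ≤ 3 := hV ▸ Submodule.finrank_le _
  have hne1 : finrank K (LinearMap.ker (t - 1)) ≠ 3 := by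
    intro h
    apply ht1
    have h4 : LinearMap.ker (t - 1) = ⊤ := Submodule.eq_top_of_finrank_eq (by rw [h, hV])
    rw [LinearMap.ker_eq_top, sub_eq_zero] at h4
    exact h4
  have hle2 : finrank K (LinearMap.ker (t + 1)) ≤ 3 := hV ▸ Submodule.finrank_le _
  have hne2 : finrank K (LinearMap.ker (t + 1)) ≠ 3 := by
    intro h
    apply ht2
    have h4 : LinearMap.ker (t + 1) = ⊤ := Submodule.eq_top_of_finrank_eq (by rw [h, hV])
    rw [LinearMap.ker_eq_top, add_eq_zero_iff_eq_neg] at h4
    exact h4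
  have e1 : LinearMap.ker (t - 1) = ⊥ := Submodule.finrank_eq_zero.1 (by omega)
  have e2 : LinearMap.ker (t + 1) = ⊥ := Submodule.finrank_eq_zero.1 (by omega)
  -- `(t - 1) (t + 1) = 0`
  have h5 : ∀ v, (t - 1) ((t + 1) v) = 0 := by
    intro v
    have := LinearMap.congr_fun ht v
    rw [Module.End.mul_apply, Module.End.one_apply] at this
    simp only [LinearMap.sub_apply, LinearMap.add_apply, Module.End.one_apply, map_add, this]
    abel
  have h6 : ∀ v : V, v = 0 := by
    intro v
    have h7 : (t + 1) v = 0 := by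
      have : (t + 1) v ∈ LinearMap.ker (t - 1) := h5 v
      rw [e1] at this
      exact (Submodule.mem_bot K).1 this
    have : v ∈ LinearMap.ker (t + 1) := h7
    rw [e2] at this
    exact (Submodule.mem_bot K).1 this
  have : Subsingleton V := ⟨fun a b => by rw [h6 a, h6 b]⟩
  rw [Module.finrank_zero_of_subsingleton] at hV
  omega

end Lin

section Mat

variable {K : Type*} [Field K] [Finite K]

local notation "M3" => Matrix (Fin 3) (Fin 3) K

theorem cast_ne_zero_of_orderOf {r : ℕ} [hr : Fact r.Prime] (ho : orderOf ((Nat.card K : ℕ) : ZMod r) = 3) :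
    (r : K) ≠ 0 := by
  intro h0
  haveI : Fintype K := Fintype.ofFinite K
  obtain ⟨p, hp⟩ := CharP.exists K
  obtain ⟨m, hp', hm⟩ := FiniteField.card K p
  have hrp : p = r := (Nat.prime_dvd_prime_iff_eq hp' hr.out).1 ((CharP.cast_eq_zero_iff K p r).1 h0)
  have h1 : ((Nat.card K : ℕ) : ZMod r) = 0 := by
    rw [ZMod.natCast_eq_zero_iff, Nat.card_eq_fintype_card, hm, hrp]
    exact dvd_pow_self _ (PNat.ne_zero m)
  rw [h1] at ho
  have h2 := pow_orderOf_eq_one (0 : ZMod r)
  rw [ho] at h2
  simp at h2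

omit [Finite K] in
theorem toLin_pow (X : M3) (n : ℕ) : (Matrix.toLin' X) ^ n = Matrix.toLin' (X ^ n) := (Matrix.toLin'_pow X n).symm

theorem fpf_mat {r : ℕ} [hr : Fact r.Prime] (ho : orderOf ((Nat.card K : ℕ) : ZMod r) = 3) {X : M3}
    (hX : X ^ r = 1) (hX1 : X ≠ 1) : ∀ v, X *ᵥ v = v → v = 0 := by
  intro v hv
  refine fpf_three (V := Fin 3 → K) (by simp) hr.out ho (cast_ne_zero_of_orderOf ho) (Matrix.toLin' X) ?_ ?_ v hv
  · rw [toLin_pow, hX, Matrix.toLin'_one]; rfl
  · intro h
    apply hX1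
    apply Matrix.toLin'.injective
    rw [h, Matrix.toLin'_one]; rfl

theorem not_commute_mat {r : ℕ} [hr : Fact r.Prime] (ho : orderOf ((Nat.card K : ℕ) : ZMod r) = 3)
    {X T : M3} (hX : X ^ r = 1) (hX1 : X ≠ 1) (hT : T * T = 1) (hT1 : T ≠ 1) (hT2 : T ≠ -1) :
    X * T ≠ T * X := by
  intro hcomm
  refine not_commute_three (V := Fin 3 → K) (by simp) hr.out ho (cast_ne_zero_of_orderOf ho) (Matrix.toLin' X)
    (Matrix.toLin' T) ?_ ?_ ?_ ?_ ?_ ?_
  · rw [toLin_pow, hX, Matrix.toLin'_one]; rfl
  · intro h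
    apply hX1
    apply Matrix.toLin'.injective
    rw [h, Matrix.toLin'_one]; rfl
  · rw [Module.End.mul_eq_comp, ← Matrix.toLin'_mul, hT, Matrix.toLin'_one]; rfl
  · intro h
    apply hT1
    apply Matrix.toLin'.injective
    rw [h, Matrix.toLin'_one]; rfl
  · intro h
    apply hT2
    apply Matrix.toLin'.injective
    rw [h, map_neg, Matrix.toLin'_one]; rfl
  · rw [Module.End.mul_eq_comp, Module.End.mul_eq_comp, ← Matrix.toLin'_mul, ← Matrix.toLin'_mul, hcomm]

omit [Finite K] in
/-- an element inverted by a matrix has a fixed vector -/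
theorem det_sub_one {X Y T : M3} (h2 : (2 : K) ≠ 0) (hXY : X * Y = 1) (hdX : X.det = 1) (hT : T.det ≠ 0)
    (h : T * X = Y * T) : (X - 1).det = 0 := by
  have hdY : Y.det = 1 := by
    have := congrArg Matrix.det hXY
    rw [Matrix.det_mul, hdX, one_mul, Matrix.det_one] at this
    exact this
  have hYX : Y * X = 1 := mul_eq_one_comm.1 hXY
  have h1 : T * (X - 1) = (Y - 1) * T := by rw [mul_sub, sub_mul, h, mul_one, one_mul]
  have h3 : T.det * (X - 1).det = (Y - 1).det * T.det := by rw [← Matrix.det_mul, h1, Matrix.det_mul]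
  have h4 : Y - 1 = -(Y * (X - 1)) := by rw [mul_sub, hYX, mul_one]; abel
  have h5 : (Y - 1).det = -(X - 1).det := by
    rw [h4, Matrix.det_neg, Matrix.det_mul, hdY, one_mul, Fintype.card_fin]
    ring
  rw [h5] at h3
  have h6 : 2 * (X - 1).det = 0 := by
    have h7 : T.det * (2 * (X - 1).det) = 0 := by linear_combination h3
    exact (mul_eq_zero.1 h7).resolve_left hT
  exact (mul_eq_zero.1 h6).resolve_left h2

/-- **the normaliser of a Sylow `r`-subgroup has odd order** -/
theorem odd_normalizer {G : Type*} [Group G] [Finite G] (h2 : (2 : K) ≠ 0)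
    (ρ : G →* Matrix.SpecialLinearGroup (Fin 3) K) (hρ : Function.Injective ρ) {r : ℕ} [hr : Fact r.Prime]
    (ho : orderOf ((Nat.card K : ℕ) : ZMod r) = 3) (R : Sylow r G) (hd : r ∣ Nat.card G) :
    ¬ 2 ∣ Nat.card (normalizer ((R : Subgroup G) : Set G)) := by
  intro hcard
  haveI : Fact (Nat.Prime 2) := ⟨Nat.prime_two⟩
  obtain ⟨t0, ht0⟩ := exists_prime_orderOf_dvd_card' 2 hcard
  set t : G := (t0.1 : G) with ht
  have hto : orderOf t = 2 := (Subgroup.orderOf_coe t0).trans ht0
  have htt : t * t = 1 := by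
    have := pow_orderOf_eq_one t
    rwa [hto, pow_two] at this
  have ht1 : t ≠ 1 := by
    rintro h
    rw [h, orderOf_one] at hto
    omega
  have htN : t ∈ normalizer ((R : Subgroup G) : Set G) := t0.2
  -- a central element of order `r`
  haveI : Nontrivial (R : Subgroup G) := by
    rw [Subgroup.nontrivial_iff_ne_bot]
    exact R.ne_bot_of_dvd_card hd
  haveI : Nontrivial (center (R : Subgroup G)) := R.isPGroup'.center_nontrivial
  have hZ : r ∣ Nat.card (center (R : Subgroup G)) := by
    obtain ⟨n, hn, hn'⟩ := (IsPGroup.nontrivial_iff_card (R.isPGroup'.to_subgroup _)).1 this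
    rw [hn']; exact dvd_pow_self r (by omega)
  obtain ⟨x0, hx0⟩ := exists_prime_orderOf_dvd_card' r hZ
  set x : G := ((x0 : (R : Subgroup G)) : G) with hx
  have hxo : orderOf x = r := by rw [hx, Subgroup.orderOf_coe, Subgroup.orderOf_coe, hx0]
  have hxR : x ∈ (R : Subgroup G) := (x0 : (R : Subgroup G)).2
  have hxc : ∀ y ∈ (R : Subgroup G), x * y = y * x := by
    intro y hy
    exact congrArg Subtype.val ((mem_center_iff.1 x0.2 ⟨y, hy⟩).symm)
  have hy : t * x * t⁻¹ ∈ (R : Subgroup G) := (mem_normalizer_iff.1 htN _).1 hxR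
  set y : G := t * x * t⁻¹ with hydef
  have hyo : y ^ r = 1 := by
    rw [hydef, conj_pow, ← hxo, pow_orderOf_eq_one]; simp
  have hxr : x ^ r = 1 := by rw [← hxo, pow_orderOf_eq_one]
  have htinv : t⁻¹ = t := inv_eq_of_mul_eq_one_left htt
  have hty : t * y * t⁻¹ = x := by
    rw [hydef, htinv]
    calc t * (t * x * t) * t = (t * t) * x * (t * t) := by group
      _ = x := by rw [htt, one_mul, mul_one]
  have hT : (ρ t).1 * (ρ t).1 = 1 := by
    have := congrArg (fun g : G => (ρ g).1) htt
    simpa using this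
  have hT1 : (ρ t).1 ≠ 1 := by
    intro h
    apply ht1
    apply hρ
    rw [map_one]
    exact Subtype.ext h
  have hT2 : (ρ t).1 ≠ -1 := by
    intro h
    have h3 := (ρ t).2
    rw [h, Matrix.det_neg, Matrix.det_one, Fintype.card_fin] at h3
    apply h2
    linear_combination -h3
  by_cases hz : x * y = 1
  · -- `t` inverts `x`
    have hX : (ρ x).1 ^ r = 1 := by
      have := congrArg (fun g : G => (ρ g).1) hxr
      simpa using this
    have hX1 : (ρ x).1 ≠ 1 := by
      intro h
      have h3 : x = 1 := hρ (by rw [map_one]; exact Subtype.ext h)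
      rw [h3, orderOf_one] at hxo
      exact hr.out.one_lt.ne hxo
    have hXY : (ρ x).1 * (ρ y).1 = 1 := by
      have := congrArg (fun g : G => (ρ g).1) hz
      simpa using this
    have hTX : (ρ t).1 * (ρ x).1 = (ρ y).1 * (ρ t).1 := by
      have h3 : t * x = y * t := by rw [hydef]; group
      have := congrArg (fun g : G => (ρ g).1) h3
      simpa using this
    have hdet := det_sub_one h2 hXY (ρ x).2 (by rw [(ρ t).2]; exact one_ne_zero) hTX
    obtain ⟨v, hv0, hv⟩ := Matrix.exists_mulVec_eq_zero_iff.2 hdet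
    apply hv0
    apply fpf_mat ho hX hX1 v
    rw [Matrix.sub_mulVec, Matrix.one_mulVec, sub_eq_zero] at hv
    exact hv
  · -- `t` centralises `x y`
    have hxy : x * y = y * x := hxc y hy
    have hzr : (x * y) ^ r = 1 := by
      rw [(show Commute x y from hxy).mul_pow, hxr, hyo, one_mul]
    have htz : (x * y) * t = t * (x * y) := by
      have h3 : t * (x * y) * t⁻¹ = x * y := by
        calc t * (x * y) * t⁻¹ = (t * x * t⁻¹) * (t * y * t⁻¹) := by group
          _ = y * x := by rw [hty]
          _ = x * y := hxy.symm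
      calc (x * y) * t = (t * (x * y) * t⁻¹) * t := by rw [h3]
        _ = t * (x * y) := by group
    refine not_commute_mat ho (X := (ρ (x * y)).1) (T := (ρ t).1) ?_ ?_ hT hT1 hT2 ?_
    · have := congrArg (fun g : G => (ρ g).1) hzr
      simpa using this
    · intro h
      exact hz (hρ (by rw [map_one]; exact Subtype.ext h))
    · have := congrArg (fun g : G => (ρ g).1) htz
      simpa using this

/-- **four divides the Sylow number** -/
theorem four_dvd_sylow {G : Type*} [Group G] [Finite G] (h2 : (2 : K) ≠ 0)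
    (ρ : G →* Matrix.SpecialLinearGroup (Fin 3) K) (hρ : Function.Injective ρ) {r : ℕ} [hr : Fact r.Prime]
    (ho : orderOf ((Nat.card K : ℕ) : ZMod r) = 3) (hd : r ∣ Nat.card G) (h4 : 4 ∣ Nat.card G) :
    4 ∣ Nat.card (Sylow r G) := by
  obtain ⟨R⟩ : Nonempty (Sylow r G) := inferInstance
  have h := odd_normalizer h2 ρ hρ ho R hd
  have hmul := card_sylow_mul R
  rw [← hmul] at h4
  refine Nat.Coprime.dvd_of_dvd_mul_right ?_ h4
  exact Nat.Coprime.pow_left 2 ((Nat.Prime.coprime_iff_not_dvd Nat.prime_two).2 h)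

end Mat

end Cfsg.Agent.H947.Sq
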