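import Mathlib
import Cfsg.Agent.H947.SqRank
import Cfsg.Agent.CpAutON.Gen

/-!
# Sylow numbers of alternating groups (helper947, for S4289)

* `alt_dvd` : `C(n,r) (r-2)!` divides `2 n_r(A_n)` for a prime `5 ≤ r ≤ n < 2r`;
* `not_sqSy_alternating` : `A_n`, `n ≥ 7`, has a Sylow number which is not square-free.
-/

set_option autoImplicit false
set_option linter.style.haveILetI false

namespace Cfsg.Agent.H947.Sq

open Subgroup Nat

theorem exists_cycle {n r : ℕ} (h2 : 2 ≤ r) (hrn : r ≤ n) :
    ∃ c : Equiv.Perm (Fin n), c.cycleType = {r} := by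
  classical
  refine (Equiv.Perm.exists_with_cycleType_iff (α := Fin n)).2 ⟨?_, ?_⟩
  · rw [Multiset.sum_singleton, Fintype.card_fin]; exact hrn
  · intro a ha
    rw [Multiset.mem_singleton] at ha
    omega

theorem alt_dvd {n r : ℕ} [hr : Fact r.Prime] (h5 : 5 ≤ r) (hrn : r ≤ n) (hn : n < 2 * r) :
    n.choose r * (r - 2)! ∣ 2 * Nat.card (Sylow r (alternatingGroup (Fin n))) := by
  classical
  haveI : Nontrivial (Fin n) := Fin.nontrivial_iff_two_le.2 (by omega)
  obtain ⟨c, hc⟩ := exists_cycle (n := n) (r := r) (by omega) hrn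
  have hodd : Odd r := hr.out.odd_of_ne_two (by omega)
  have hcA : c ∈ alternatingGroup (Fin n) := by
    rw [Equiv.Perm.mem_alternatingGroup, Equiv.Perm.sign_of_cycleType, hc, Multiset.sum_singleton,
      Multiset.card_singleton]
    exact Even.neg_one_pow (hodd.add_one)
  have hco : orderOf c = r := by
    rw [← Equiv.Perm.lcm_cycleType, hc, Multiset.lcm_singleton, normalize_eq]
  set x : alternatingGroup (Fin n) := ⟨c, hcA⟩ with hx
  have hxo : orderOf x = r := by rw [← hco, ← Subgroup.orderOf_coe]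
  have hcard : 2 * Nat.card (alternatingGroup (Fin n)) = n ! := by
    rw [two_mul_nat_card_alternatingGroup, Nat.card_eq_fintype_card, Fintype.card_perm, Fintype.card_fin]
  have hsq : ¬ r ^ 2 ∣ Nat.card (alternatingGroup (Fin n)) := by
    intro h
    have h1 : r ^ 2 ∣ n ! := by rw [← hcard]; exact h.mul_left 2
    rw [hr.out.pow_dvd_factorial_iff (b := 2)] at h1
    · have h2 : n / r ^ 1 ≤ 1 := by
        rw [pow_one]
        have : n / r < 2 := (Nat.div_lt_iff_lt_mul hr.out.pos).2 hn
        omega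
      rw [Nat.Ico_succ_singleton, Finset.sum_singleton] at h1
      omega
    · apply Nat.log_lt_of_lt_pow (by omega)
      nlinarith
  obtain ⟨P, hP⟩ := Cfsg.Agent.CpAutON.Gen.exists_sylow hsq hxo
  have h1 := card_sylow_mul P
  rw [hP, Cfsg.Agent.CpAutON.Gen.card_normalizer] at h1
  -- the centraliser
  have h2 : Nat.card (centralizer ({x} : Set (alternatingGroup (Fin n)))) ∣ (n - r)! * r := by
    have h3 : Nat.card (centralizer ({c} : Set (Equiv.Perm (Fin n)))) = (n - r)! * r := by
      rw [Equiv.Perm.nat_card_centralizer, hc]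
      simp
    rw [← h3, Nat.card_congr ((centralizer ({x} : Set (alternatingGroup (Fin n)))).equivMapOfInjective
      (alternatingGroup (Fin n)).subtype (alternatingGroup (Fin n)).subtype_injective).toEquiv]
    apply Subgroup.card_dvd_of_le
    rintro _ ⟨y, hy, rfl⟩
    rw [SetLike.mem_coe, mem_centralizer_singleton_iff] at hy
    rw [mem_centralizer_singleton_iff]
    exact congrArg Subtype.val hy
  have h4 : Nat.card ((zpowers x).normalizerMonoidHom).range ∣ r - 1 := by
    rw [← Cfsg.Agent.CpAutON.Gen.card_mulAut hxo]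
    exact card_subgroup_dvd_card _
  have h5' : n ! ∣ 2 * Nat.card (Sylow r (alternatingGroup (Fin n))) * ((n - r)! * r * (r - 1)) := by
    rw [← hcard, ← h1, ← mul_assoc]
    exact mul_dvd_mul dvd_rfl (mul_dvd_mul h2 h4)
  have h6 : n ! = (n.choose r * (r - 2)!) * ((n - r)! * r * (r - 1)) := by
    rw [← Nat.choose_mul_factorial_mul_factorial hrn]
    have h7 : r ! = r * ((r - 1) * (r - 2)!) := by
      rw [← Nat.mul_factorial_pred (by omega : r ≠ 0), ← Nat.mul_factorial_pred (by omega : r - 1 ≠ 0)]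
      rfl
    rw [h7]; ring
  rw [h6] at h5'
  exact Nat.dvd_of_mul_dvd_mul_right (by
    have : 0 < (n - r)! := Nat.factorial_pos _
    have : 0 < r - 1 := by omega
    positivity) h5'

theorem not_sqSy_alternating {n : ℕ} (hn : 7 ≤ n) : ¬ SqSy (alternatingGroup (Fin n)) := by
  intro h
  obtain ⟨r, hr, h7, hrn, hn2⟩ : ∃ r : ℕ, r.Prime ∧ 7 ≤ r ∧ r ≤ n ∧ n < 2 * r := by
    rcases Nat.lt_or_ge n 14 with h14 | h14
    · exact ⟨7, by norm_num, le_rfl, hn, by omega⟩
    · obtain ⟨r, hr, h1, h2⟩ := Nat.exists_prime_lt_and_le_two_mul (n / 2) (by omega)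
      exact ⟨r, hr, by omega, by omega, by omega⟩
  haveI : Fact r.Prime := ⟨hr⟩
  have h1 := alt_dvd (by omega) hrn hn2
  have h2 : 8 ∣ (r - 2)! := by
    refine dvd_trans (by decide) (Nat.factorial_dvd_factorial (show 5 ≤ r - 2 by omega))
  have h3 : 8 ∣ 2 * Nat.card (Sylow r (alternatingGroup (Fin n))) := (h2.mul_left _).trans h1
  exact not_four_dvd h hr (by omega)

end Cfsg.Agent.H947.Sq
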