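import Mathlib
import Cfsg.Agent.H947.SqRed
import Cfsg.Agent.S0242
import Cfsg.Agent.S0243
import Cfsg.Agent.S0265
import Cfsg.Agent.S0813
import Cfsg.Agent.OddCyclic.CoverTrans
import Cfsg.Agent.Lib.PSL2Mult

/-!
# S4289 from the list of simple groups with square-free Sylow numbers (helper947)

* `main` : S4289, if every simple group with square-free Sylow numbers is `PSL(2,p)`, `p ≡ 5 mod 8`.
-/

set_option autoImplicit false
set_option linter.style.haveILetI false

universe u

namespace Cfsg.Agent.H947.Sq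

open Subgroup Cfsg.Agent.H482.SylowNumbers
open scoped commutatorElement

/-- `PSL(2,p)`, `p ≡ 5 mod 8` -/
def IsP5 (S : Type*) [Group S] : Prop :=
  ∃ (F : Type) (_ : Field F) (_ : Fintype F) (p : ℕ), p.Prime ∧ p % 8 = 5 ∧ Fintype.card F = p ∧
    Nonempty (S ≃* Matrix.ProjectiveSpecialLinearGroup (Fin 2) F)

theorem card_mulAut {F : Type*} [Field F] [Fintype F] (hp : (Fintype.card F).Prime) (h5 : 5 ≤ Fintype.card F) :
    Nat.card (MulAut (Matrix.ProjectiveSpecialLinearGroup (Fin 2) F)) =
      2 * Nat.card (Matrix.ProjectiveSpecialLinearGroup (Fin 2) F) := by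
  haveI : Fact (Fintype.card F).Prime := ⟨hp⟩
  have h1 := Cfsg.Agent.S0813.result (F := F) (Fintype.card F) 1 le_rfl (pow_one _).symm 2 le_rfl
    (fun _ => by rw [pow_one]; omega)
  rw [if_pos rfl, one_mul, one_mul, Cfsg.Agent.S0265.result] at h1
  rw [h1]
  have h2 := Cfsg.Agent.S0242.result (F := F) rfl 2 (by norm_num)
  have h3 := Cfsg.Agent.S0243.result (F := F) rfl 2 le_rfl
  rw [← h2] at h3
  have hodd : Odd (Fintype.card F) := hp.odd_of_ne_two (by omega)
  have h4 : Nat.gcd 2 (Fintype.card F - 1) = 2 := by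
    apply Nat.gcd_eq_left
    obtain ⟨k, hk⟩ := hodd
    omega
  rw [h4] at h3
  have h5 : 0 < Fintype.card F - 1 := by omega
  apply Nat.eq_of_mul_eq_mul_left h5
  rw [← h3]
  ring

theorem center_two {L : Type*} [Group L] [Finite L] (hL : commutator L = ⊤) {F : Type*} [Field F] [Fintype F]
    (hp : (Fintype.card F).Prime) (h5 : 5 ≤ Fintype.card F)
    (e : L ⧸ center L ≃* Matrix.ProjectiveSpecialLinearGroup (Fin 2) F) : IsPGroup 2 (center L) := by
  classical
  have hodd : Odd (Fintype.card F) := hp.odd_of_ne_two (by omega)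
  have h9 : Fintype.card F ≠ 9 := by
    intro h; rw [h] at hp; exact absurd hp (by norm_num)
  set f : L →* Matrix.ProjectiveSpecialLinearGroup (Fin 2) F :=
    e.toMonoidHom.comp (QuotientGroup.mk' (center L)) with hf
  have hfs : Function.Surjective f := e.surjective.comp (QuotientGroup.mk'_surjective _)
  have hk : f.ker = center L := by
    ext x
    rw [MonoidHom.mem_ker]
    show e (QuotientGroup.mk' (center L) x) = 1 ↔ _
    rw [map_eq_one_iff e e.injective]
    exact QuotientGroup.eq_one_iff x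
  have h1 : ∀ {d : ℕ}, d.Prime → d ∣ Nat.card (center L) → d = 2 := by
    intro d hd hdd
    by_contra h2
    haveI : Fact d.Prime := ⟨hd⟩
    refine Cfsg.Agent.Lib.PSL2Mult.not_dvd_ker hodd (by omega) h9 hfs hk.le hL h2 ?_
    rw [hk]; exact hdd
  exact IsPGroup.of_card (Nat.eq_prime_pow_of_unique_prime_dvd Nat.card_pos.ne' h1)

theorem main {G : Type u} [Group G] [Finite G] (h : SqSy G)
    (Row : ∀ (S : Type u) [Group S] [Finite S], IsSimpleGroup S → ¬ IsMulCommutative S → SqSy S → IsP5 S) :
    Cfsg.IsSupersolvable G ∨ ∃ (H K : Subgroup G) (x : G), H.Normal ∧ K.Normal ∧ H ⊔ K ⊔ Subgroup.zpowers x = ⊤ ∧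
      H ⊓ K = (Subgroup.center H).map H.subtype ∧ (∃ (F : Type) (_ : Field F) (_ : Fintype F) (p : ℕ), p.Prime ∧
        p % 8 = 5 ∧ Fintype.card F = p ∧ (Nonempty (H ≃* Matrix.ProjectiveSpecialLinearGroup (Fin 2) F) ∨
          Nonempty (H ≃* Matrix.SpecialLinearGroup (Fin 2) F))) := by
  classical
  by_cases hsol : Group.IsSolvable G
  · exact Or.inl h.isSupersolvable
  right
  obtain ⟨L, hLn, hLp, hL1, hS, hSs, hSna⟩ := exists_quasisimple h hsol
  obtain ⟨F, _, _, p, hp, hp8, hF, ⟨e⟩⟩ := Row (L ⧸ center L) hS hSna hSs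
  have hFp : (Fintype.card F).Prime := by rw [hF]; exact hp
  have hF5 : 5 ≤ Fintype.card F := by rw [hF]; omega
  have hcomm : commutator L = ⊤ := by
    apply Subgroup.map_injective L.subtype_injective
    rw [map_subtype_commutator, hLp, ← MonoidHom.range_eq_map, range_subtype]
  have h2 := center_two hcomm hFp hF5 e
  have hodd : Odd (Nat.card F) := by
    rw [Nat.card_eq_fintype_card]; exact hFp.odd_of_ne_two (by omega)
  have hiso : Nonempty (L ≃* Matrix.ProjectiveSpecialLinearGroup (Fin 2) F) ∨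
      Nonempty (L ≃* Matrix.SpecialLinearGroup (Fin 2) F) := by
    rcases Cfsg.Agent.OddCyclic.CoverTrans.sl_two_of_perfect hcomm h2 hodd e with h3 | h3
    · left
      exact ⟨(QuotientGroup.quotientBot.symm.trans (QuotientGroup.quotientMulEquivOfEq h3.symm)).trans e⟩
    · exact Or.inr h3
  set K := centralizer (L : Set G) with hK
  have hKn : K.Normal := inferInstance
  set Z : Subgroup G := (center L).map L.subtype with hZ
  have hZn : Z.Normal := inferInstance
  have hLK : L ⊓ K = Z := by
    ext x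
    constructor
    · rintro ⟨hx, hxK⟩
      refine ⟨⟨x, hx⟩, ?_, rfl⟩
      show _ ∈ center L
      rw [mem_center_iff]
      intro l
      exact Subtype.ext ((mem_centralizer_iff.1 hxK) l l.2)
    · rintro ⟨y, hy, rfl⟩
      refine ⟨y.2, ?_⟩
      show (y : G) ∈ K
      rw [hK, mem_centralizer_iff]
      intro l hl
      exact congrArg Subtype.val (mem_center_iff.1 hy ⟨l, hl⟩)
  -- the action on `L / Z`
  set π := QuotientGroup.mk' Z with hπ
  have hπs : Function.Surjective π := QuotientGroup.mk'_surjective Z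
  set M := L.map π with hM
  haveI hMn : M.Normal := hLn.map π hπs
  set ψ : G →* MulAut M := (MulAut.conjNormal (H := M)).comp π with hψ
  have hker : ψ.ker = K := by
    apply le_antisymm
    · have h3 : ⁅ψ.ker, L⁆ ≤ Z := by
        rw [commutator_le]
        intro g hg l hl
        have h4 : ψ g = 1 := hg
        have h5 : ((ψ g) ⟨π l, ⟨l, hl, rfl⟩⟩ : G ⧸ Z) = π l := by rw [h4]; rfl
        rw [hψ, MonoidHom.comp_apply, MulAut.conjNormal_apply] at h5
        have h6 : π ⁅g, l⁆ = 1 := by
          rw [map_commutatorElement, commutatorElement_def, h5, mul_inv_cancel]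
        exact (QuotientGroup.eq_one_iff _).1 h6
      have hZL : ⁅Z, L⁆ = ⊥ := by
        rw [commutator_eq_bot_iff_le_centralizer, ← hLK]
        exact inf_le_right
      have h4 : ⁅⁅ψ.ker, L⁆, L⁆ = ⊥ := by
        rw [eq_bot_iff, ← hZL]
        exact commutator_mono h3 le_rfl
      have h5 : ⁅⁅L, ψ.ker⁆, L⁆ = ⊥ := by rw [commutator_comm L ψ.ker]; exact h4
      have h6 : ⁅⁅L, L⁆, ψ.ker⁆ = ⊥ := commutator_commutator_eq_bot_of_rotate h5 h4
      rw [hLp, commutator_comm, commutator_eq_bot_iff_le_centralizer] at h6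
      exact h6
    · intro g hg
      rw [MonoidHom.mem_ker]
      ext m
      obtain ⟨l, hl, hlm⟩ := m.2
      rw [hψ, MonoidHom.comp_apply, MulAut.conjNormal_apply, ← hlm, ← map_inv, ← map_mul, ← map_mul]
      have : g * l * g⁻¹ = l := by
        have := (mem_centralizer_iff.1 hg) l hl
        rw [← this]; group
      rw [this]
      exact hlm
  have eM : M ≃* Matrix.ProjectiveSpecialLinearGroup (Fin 2) F := by
    have h1 : (π.subgroupMap L).ker = center L := by
      rw [Subgroup.ker_subgroupMap, QuotientGroup.ker_mk', hZ]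
      ext x
      rw [mem_subgroupOf]
      constructor
      · rintro ⟨y, hy, hyx⟩
        have : y = x := Subtype.ext hyx
        rw [← this]; exact hy
      · intro hx; exact ⟨x, hx, rfl⟩
    exact ((QuotientGroup.quotientMulEquivOfEq h1.symm).trans
      (QuotientGroup.quotientKerEquivOfSurjective _ (MonoidHom.subgroupMap_surjective π L))).symm.trans e
  have hMcard : Nat.card M = Nat.card (L ⧸ center L) := Nat.card_congr (eM.trans e.symm).toEquiv
  have hKidx : K.index ∣ 2 * Nat.card (L ⧸ center L) := by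
    rw [← hker, index_ker]
    have h3 : Nat.card (MulAut M) = 2 * Nat.card (L ⧸ center L) := by
      rw [Nat.card_congr (MulAut.congr eM).toEquiv, card_mulAut hFp hF5, Nat.card_congr e.toEquiv]
    rw [← h3]
    exact Subgroup.card_subgroup_dvd_card _
  have hrel : K.relIndex (L ⊔ K) = Nat.card (L ⧸ center L) := by
    rw [sup_comm, relIndex_sup_left, ← inf_relIndex_left, hLK]
    rw [← Subgroup.index_eq_card]
    rw [Subgroup.relIndex]
    congr 1
    ext x
    rw [mem_subgroupOf]
    constructor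
    · rintro ⟨y, hy, hyx⟩
      have : y = x := Subtype.ext hyx
      rw [← this]; exact hy
    · intro hx; exact ⟨x, hx, rfl⟩
  have hidx : (L ⊔ K).index ∣ 2 := by
    have h3 := relIndex_mul_index (le_sup_right : K ≤ L ⊔ K)
    rw [← h3, hrel, mul_comm 2] at hKidx
    exact Nat.dvd_of_mul_dvd_mul_left Nat.card_pos hKidx
  have hx : ∃ x : G, L ⊔ K ⊔ zpowers x = ⊤ := by
    by_cases htop : L ⊔ K = ⊤
    · exact ⟨1, by rw [htop, top_sup_eq]⟩
    obtain ⟨x, hx⟩ : ∃ x, x ∉ L ⊔ K := by
      by_contra hcon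
      push Not at hcon
      exact htop (eq_top_iff.2 fun x _ => hcon x)
    refine ⟨x, ?_⟩
    have hlt : L ⊔ K < L ⊔ K ⊔ zpowers x := by
      refine lt_of_le_of_ne le_sup_left ?_
      intro h4
      apply hx
      rw [h4]
      exact (le_sup_right : zpowers x ≤ _) (mem_zpowers x)
    have h5 := relIndex_mul_index hlt.le
    have h6 : (L ⊔ K).relIndex (L ⊔ K ⊔ zpowers x) ≠ 1 := by
      rw [Ne, relIndex_eq_one]
      exact hlt.not_ge
    rw [← index_eq_one]
    rcases (Nat.dvd_prime Nat.prime_two).1 hidx with h7 | h7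
    · rw [index_eq_one] at h7
      exact absurd h7 htop
    · rw [h7] at h5
      have h8 : (L ⊔ K).relIndex (L ⊔ K ⊔ zpowers x) ∣ 2 := Dvd.intro _ h5
      rcases (Nat.dvd_prime Nat.prime_two).1 h8 with h9 | h9
      · exact absurd h9 h6
      · rw [h9] at h5
        omega
  obtain ⟨x, hx⟩ := hx
  exact ⟨L, K, x, hLn, hKn, hx, hLK, F, _, _, p, hp, hp8, hF, hiso⟩

end Cfsg.Agent.H947.Sq
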