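import Mathlib
import Cfsg.Agent.H947.SqRank
import Cfsg.Agent.Classification.SimpleIndex
import Cfsg.Agent.S0280
import Cfsg.Prelude.Def_Sporadic

/-!
# Simple groups of order 7920 and 62400 have a Sylow number which is not square-free (helper947, for S4289)
-/

set_option autoImplicit false
set_option linter.style.haveILetI false

namespace Cfsg.Agent.H947.Sq

open Subgroup Cfsg

variable {G : Type*} [Group G] [Finite G]

/-- the conditions on a Sylow number of a simple group -/
theorem sylow_number [IsSimpleGroup G] (hG : ¬ IsMulCommutative G) (h : SqSy G) {r : ℕ} (hr : r.Prime) {N : ℕ}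
    (hN : Nat.card G = r * N) :
    ∃ k : ℕ, (r * k + 1) ∣ N ∧ k ≠ 0 ∧ (∀ p : ℕ, p.Prime → ¬ p ^ 2 ∣ (r * k + 1)) := by
  haveI : Fact r.Prime := ⟨hr⟩
  obtain ⟨R⟩ : Nonempty (Sylow r G) := inferInstance
  have h1 := card_sylow_modEq_one r G
  have h2 : Nat.card (Sylow r G) = r * (Nat.card (Sylow r G) / r) + 1 := by
    rw [Nat.ModEq, Nat.mod_eq_of_lt hr.one_lt] at h1
    have := Nat.div_add_mod (Nat.card (Sylow r G)) r
    rw [h1] at this
    exact this.symm
  set k := Nat.card (Sylow r G) / r with hk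
  refine ⟨k, ?_, ?_, ?_⟩
  · rw [← h2]
    have h3 : Nat.card (Sylow r G) ∣ r * N := by
      rw [← hN, ← card_sylow_mul R]; exact dvd_mul_right _ _
    refine Nat.Coprime.dvd_of_dvd_mul_left ?_ h3
    rw [h2, Nat.coprime_comm]
    simp
  · intro hk0
    rw [hk0, mul_zero, zero_add] at h2
    exact Cfsg.Agent.Classification.SimpleIndex.card_sylow_ne_one hG r (by rw [hN]; exact dvd_mul_right _ _) h2
  · intro p hp
    rw [← h2]
    exact not_sq_dvd h hr hp

theorem num720 : ∀ k < 66, k ≠ 0 → (11 * k + 1) ∣ 720 → ¬ 4 ∣ (11 * k + 1) → ¬ 9 ∣ (11 * k + 1) → False := by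
  decide +kernel

theorem num4800 : ∀ k < 370, k ≠ 0 → (13 * k + 1) ∣ 4800 → ¬ 4 ∣ (13 * k + 1) → ¬ 25 ∣ (13 * k + 1) → False := by
  decide +kernel

theorem not_sqSy_7920 [IsSimpleGroup G] (hnc : ¬ IsMulCommutative G) (hG : Nat.card G = 7920) : ¬ SqSy G := by
  intro h
  obtain ⟨k, h1, h2, h3⟩ := sylow_number hnc h (r := 11) (N := 720) (by norm_num) (by rw [hG])
  have h4 := Nat.le_of_dvd (by norm_num) h1
  exact num720 k (by omega) h2 h1 (h3 2 (by norm_num)) (h3 3 (by norm_num))

theorem not_sqSy_62400 [IsSimpleGroup G] (hnc : ¬ IsMulCommutative G) (hG : Nat.card G = 62400) : ¬ SqSy G := by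
  intro h
  obtain ⟨k, h1, h2, h3⟩ := sylow_number hnc h (r := 13) (N := 4800) (by norm_num) (by rw [hG])
  have h4 := Nat.le_of_dvd (by norm_num) h1
  exact num4800 k (by omega) h2 h1 (h3 2 (by norm_num)) (h3 5 (by norm_num))

theorem card_psu3_four {F : Type*} [Field F] [Fintype F] (hF : Fintype.card F = 16) :
    Nat.card (PSU 3 F 4) = 62400 := by
  have h := Cfsg.Agent.S0280.result (F := F) (q := 4) (by rw [hF]; norm_num) 3 (by norm_num)
  rw [show Nat.gcd 3 (4 + 1) = 1 from rfl] at h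
  simp only [Finset.prod_range_succ, Finset.prod_range_zero] at h
  rw [if_pos (by decide), if_neg (by decide), if_pos (by decide)] at h
  norm_num at h
  omega

end Cfsg.Agent.H947.Sq
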