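import Mathlib
import Cfsg.Agent.H947.SqLin3
import Cfsg.Agent.H947.SqNum
import Cfsg.Agent.H947.SqAlt
import Cfsg.Agent.H947.SqMain
import Cfsg.Agent.S0243
import Cfsg.Agent.S0280

/-!
# `PSL₃(q)` and `PSU₃(q)`, `q` odd, have a Sylow number which is not square-free (helper947, for S4289)
-/

set_option autoImplicit false
set_option linter.style.haveILetI false

namespace Cfsg.Agent.H947.Sq

open Subgroup Matrix Cfsg Cfsg.Agent.H482.SylowNumbers

theorem exists_prime_ne_three {m : ℕ} (h3 : 3 < m) (h9 : ¬ 9 ∣ m) : ∃ r : ℕ, r.Prime ∧ r ∣ m ∧ r ≠ 3 := by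
  by_contra hcon
  push Not at hcon
  have h1 : ∀ {d : ℕ}, d.Prime → d ∣ m → d = 3 := fun hd hdm => hcon _ hd hdm
  have h2 := Nat.eq_prime_pow_of_unique_prime_dvd (by omega) h1
  set k := m.primeFactorsList.length with hk
  rcases Nat.lt_or_ge k 2 with h | h
  · have h4 : m ≤ 3 ^ 1 := by rw [h2]; exact Nat.pow_le_pow_right (by norm_num) (by omega)
    omega
  · apply h9
    rw [h2]
    exact pow_dvd_pow 3 h

theorem not_nine_dvd (q : ℕ) : ¬ 9 ∣ q ^ 2 + q + 1 := by
  intro h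
  have h1 : (q ^ 2 + q + 1) % 9 = 0 := Nat.mod_eq_zero_of_dvd h
  have h2 : q % 9 < 9 := Nat.mod_lt _ (by norm_num)
  rw [Nat.add_mod, Nat.add_mod (q ^ 2), Nat.pow_mod] at h1
  interval_cases (q % 9) <;> omega

theorem not_sqSy_psl3 {F : Type*} [Field F] [Fintype F] (hodd : Odd (Fintype.card F)) :
    ¬ SqSy (Matrix.ProjectiveSpecialLinearGroup (Fin 3) F) := by
  intro h
  set q := Fintype.card F with hq
  have hq3 : 3 ≤ q := by
    have : 1 < q := Fintype.one_lt_card
    obtain ⟨k, hk⟩ := hodd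
    omega
  obtain ⟨r, hr, hrd, hr3⟩ := exists_prime_ne_three (m := q ^ 2 + q + 1) (by nlinarith) (not_nine_dvd q)
  haveI : Fact r.Prime := ⟨hr⟩
  -- the order of `q` modulo `r`
  have hz : ((q : ZMod r)) ^ 2 + (q : ZMod r) + 1 = 0 := by
    have := (ZMod.natCast_eq_zero_iff (q ^ 2 + q + 1) r).2 hrd
    push_cast at this
    exact this
  have ho : orderOf ((Nat.card F : ℕ) : ZMod r) = 3 := by
    haveI : Fact (Nat.Prime 3) := ⟨Nat.prime_three⟩
    rw [Nat.card_eq_fintype_card, ← hq]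
    apply orderOf_eq_prime
    · linear_combination ((q : ZMod r) - 1) * hz
    · intro h1
      rw [h1] at hz
      apply hr3
      have h2 : ((3 : ℕ) : ZMod r) = 0 := by push_cast; linear_combination hz
      exact (Nat.prime_dvd_prime_iff_eq hr Nat.prime_three).1 ((ZMod.natCast_eq_zero_iff 3 r).1 h2)
  -- the order of the group
  have hcard := Cfsg.Agent.S0243.result (F := F) hq.symm 3 (by norm_num)
  rw [Fin.prod_univ_three] at hcard
  simp only [Fin.val_zero, Fin.val_one, Fin.val_two, pow_zero, pow_one] at hcard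
  set N := Nat.card (Matrix.ProjectiveSpecialLinearGroup (Fin 3) F) with hN
  obtain ⟨k, hk⟩ : ∃ k, q = k + 1 := ⟨q - 1, by omega⟩
  have e1 : q ^ 3 - 1 = k * (q ^ 2 + q + 1) := by
    rw [hk]
    have : (k + 1) ^ 3 = k * ((k + 1) ^ 2 + (k + 1) + 1) + 1 := by ring
    omega
  have e2 : q ^ 3 - q = q * (k * (k + 2)) := by
    rw [hk]
    have : (k + 1) ^ 3 = (k + 1) * (k * (k + 2)) + (k + 1) := by ring
    omega
  have e3 : q ^ 3 - q ^ 2 = q ^ 2 * k := by
    rw [hk]
    have : (k + 1) ^ 3 = (k + 1) ^ 2 * k + (k + 1) ^ 2 := by ring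
    omega
  rw [e1, e2, e3, show q - 1 = k by omega] at hcard
  have hkpos : 0 < k := by omega
  have hcard2 : Nat.gcd 3 k * N = (q ^ 2 + q + 1) * (q ^ 3 * (k * (k * (k + 2)))) := by
    apply Nat.eq_of_mul_eq_mul_left hkpos
    linear_combination hcard
  have hg : Nat.gcd 3 k ∣ 3 := Nat.gcd_dvd_left 3 k
  have hdN : r ∣ N := by
    have h1 : r ∣ Nat.gcd 3 k * N := by rw [hcard2]; exact hrd.mul_right _
    rcases (Nat.Prime.dvd_mul hr).1 h1 with h2 | h2
    · exact absurd ((Nat.prime_dvd_prime_iff_eq hr Nat.prime_three).1 (h2.trans hg)) hr3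
    · exact h2
  have h4N : 4 ∣ N := by
    have h1 : 4 ∣ Nat.gcd 3 k * N := by
      rw [hcard2]
      apply Dvd.dvd.mul_left
      apply Dvd.dvd.mul_left
      have h2 : 2 ∣ k := by obtain ⟨j, hj⟩ := hodd; omega
      exact mul_dvd_mul (a := 2) (c := 2) h2 (h2.mul_right _)
    have h2 : Nat.Coprime 4 (Nat.gcd 3 k) := Nat.Coprime.coprime_dvd_right hg (by norm_num)
    exact h2.dvd_of_dvd_mul_left h1
  have hdd : N ∣ Nat.card (Matrix.SpecialLinearGroup (Fin 3) F) := Subgroup.card_quotient_dvd_card _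
  have h4 := four_dvd_sylow (two_ne_zero_of_odd hodd) (MonoidHom.id (Matrix.SpecialLinearGroup (Fin 3) F))
    Function.injective_id ho (hdN.trans hdd) (h4N.trans hdd)
  exact not_four_dvd (SqSy.of_central h) hr h4

theorem not_sqSy_psu3 {F : Type*} [Field F] [Fintype F] {q : ℕ} (hF : Fintype.card F = q ^ 2) (hodd : Odd q) :
    ¬ SqSy (PSU 3 F q) := by
  intro h
  have hq3 : 3 ≤ q := by
    have h1 : 1 < Fintype.card F := Fintype.one_lt_card
    have h2 : q ≠ 1 := by rintro rfl; rw [hF] at h1; omega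
    obtain ⟨k, hk⟩ := hodd
    omega
  obtain ⟨k, hk⟩ : ∃ k, q = k + 1 := ⟨q - 1, by omega⟩
  obtain ⟨r, hr, hrd, hr3⟩ := exists_prime_ne_three (m := k ^ 2 + k + 1) (by nlinarith) (not_nine_dvd k)
  haveI : Fact r.Prime := ⟨hr⟩
  -- the order of `q ^ 2` modulo `r`
  have hz : ((q : ZMod r)) ^ 2 - (q : ZMod r) + 1 = 0 := by
    have h1 := (ZMod.natCast_eq_zero_iff (k ^ 2 + k + 1) r).2 hrd
    push_cast at h1
    rw [hk]
    push_cast
    linear_combination h1
  have ho : orderOf ((Nat.card F : ℕ) : ZMod r) = 3 := by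
    haveI : Fact (Nat.Prime 3) := ⟨Nat.prime_three⟩
    rw [Nat.card_eq_fintype_card, hF]
    push_cast
    apply orderOf_eq_prime
    · linear_combination ((q : ZMod r) + 1) * ((q : ZMod r) ^ 3 - 1) * hz
    · intro h1
      apply hr3
      have h3 : (q : ZMod r) = 2 := by linear_combination h1 - hz
      rw [h3] at hz
      have h2 : ((3 : ℕ) : ZMod r) = 0 := by push_cast; linear_combination hz
      exact (Nat.prime_dvd_prime_iff_eq hr Nat.prime_three).1 ((ZMod.natCast_eq_zero_iff 3 r).1 h2)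
  -- the order of the group
  have hcard := Cfsg.Agent.S0280.result (F := F) hF 3 (by norm_num)
  simp only [Finset.prod_range_succ, Finset.prod_range_zero] at hcard
  rw [if_pos (by decide), if_neg (by decide), if_pos (by decide)] at hcard
  set N := Nat.card (PSU 3 F q) with hN
  have e1 : q ^ 2 - 1 = k * (k + 2) := by
    rw [hk]
    have : (k + 1) ^ 2 = k * (k + 2) + 1 := by ring
    omega
  have e2 : q ^ 3 + 1 = (k ^ 2 + k + 1) * (k + 2) := by rw [hk]; ring
  have hcard2 : Nat.gcd 3 (q + 1) * N = (k ^ 2 + k + 1) * (q ^ 3 * (k * ((k + 2) * (k + 2)))) := by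
    apply Nat.eq_of_mul_eq_mul_left (show 0 < q + 1 by omega)
    simp only [zero_add, Nat.reduceAdd, pow_one, one_mul] at hcard
    rw [e1, e2] at hcard
    norm_num at hcard
    linear_combination hcard
  have hg : Nat.gcd 3 (q + 1) ∣ 3 := Nat.gcd_dvd_left 3 _
  have hdN : r ∣ N := by
    have h1 : r ∣ Nat.gcd 3 (q + 1) * N := by rw [hcard2]; exact hrd.mul_right _
    rcases (Nat.Prime.dvd_mul hr).1 h1 with h2 | h2
    · exact absurd ((Nat.prime_dvd_prime_iff_eq hr Nat.prime_three).1 (h2.trans hg)) hr3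
    · exact h2
  have h4N : 4 ∣ N := by
    have h1 : 4 ∣ Nat.gcd 3 (q + 1) * N := by
      rw [hcard2]
      apply Dvd.dvd.mul_left
      apply Dvd.dvd.mul_left
      have h2 : 2 ∣ k := by obtain ⟨j, hj⟩ := hodd; omega
      exact mul_dvd_mul (a := 2) (c := 2) h2 (Dvd.dvd.mul_right (by omega) _)
    have h2 : Nat.Coprime 4 (Nat.gcd 3 (q + 1)) := Nat.Coprime.coprime_dvd_right hg (by norm_num)
    exact h2.dvd_of_dvd_mul_left h1
  have hdd : N ∣ Nat.card (SU 3 F q) := Subgroup.card_quotient_dvd_card _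
  have hF2 : Odd (Fintype.card F) := by rw [hF]; exact hodd.pow
  have h4 := four_dvd_sylow (two_ne_zero_of_odd hF2) (SU 3 F q).subtype
    (SU 3 F q).subtype_injective ho (hdN.trans hdd) (h4N.trans hdd)
  exact not_four_dvd (SqSy.of_central h) hr h4

/-- **simple groups of `2`-rank at most two with square-free Sylow numbers** -/
theorem isP5_of_list {G : Type*} [Group G] [Finite G] [IsSimpleGroup G] (hG : ¬ IsMulCommutative G) (h : SqSy G)
    (hlist : (∃ (F : Type) (_ : Field F) (_ : Fintype F), Odd (Fintype.card F) ∧ 5 ≤ Fintype.card F ∧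
        Nonempty (G ≃* Matrix.ProjectiveSpecialLinearGroup (Fin 2) F)) ∨
      (∃ (F : Type) (_ : Field F) (_ : Fintype F), Odd (Fintype.card F) ∧
        Nonempty (G ≃* Matrix.ProjectiveSpecialLinearGroup (Fin 3) F)) ∨
      (∃ (F : Type) (_ : Field F) (_ : Fintype F) (q : ℕ), Fintype.card F = q ^ 2 ∧ Odd q ∧
        Nonempty (G ≃* Cfsg.PSU 3 F q)) ∨
      (∃ (F : Type) (_ : Field F) (_ : Fintype F), Fintype.card F = 16 ∧ Nonempty (G ≃* Cfsg.PSU 3 F 4)) ∨
      Nonempty (G ≃* alternatingGroup (Fin 7)) ∨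
      Cfsg.IsM11 G) : IsP5 G := by
  rcases hlist with ⟨F, i1, i2, h1, h2, ⟨e⟩⟩ | ⟨F, i1, i2, h1, ⟨e⟩⟩ | ⟨F, i1, i2, q, h1, h2, ⟨e⟩⟩ |
    ⟨F, i1, i2, h1, ⟨e⟩⟩ | ⟨⟨e⟩⟩ | h1
  · obtain ⟨h3, h4⟩ := (h.congr e).psl2 h1 h2
    exact ⟨F, i1, i2, Fintype.card F, h3, h4, rfl, ⟨e⟩⟩
  · exact absurd (h.congr e) (not_sqSy_psl3 h1)
  · exact absurd (h.congr e) (not_sqSy_psu3 h1 h2)
  · exact absurd h (not_sqSy_62400 hG ((Nat.card_congr e.toEquiv).trans (card_psu3_four h1)))
  · exact absurd (h.congr e) (not_sqSy_alternating le_rfl)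
  · exact absurd h (not_sqSy_7920 hG h1.2)

end Cfsg.Agent.H947.Sq
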